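import Cfsg.Agent.Spor.J4N.VB.D0

set_option autoImplicit false
set_option maxRecDepth 100000000
set_option Elab.async false

namespace Cfsg.Agent.Spor.J4N.VB

theorem uok3 : Net.okb 11 un3 = true := by decide +kernel

theorem rel3 : U.rel 11 [7, 4, 2, 3, 2, 4, 2, 3, 2, 4, 2, 3, 2, 4, 2, 3, 2, 3, 2, 3, 2, 3, 2, 3, 2, 3, 2, 3, 2, 4, 2, 4, 2, 4, 2, 3, 2, 4, 2, 3, 2, 4, 2, 3, 2, 4, 1, 3, 1, 3, 1, 3, 1, 3, 1, 4, 1, 3, 1, 4, 1, 6, 2, 3, 2, 4, 2, 3, 2, 4, 2, 4, 2, 4, 2, 4, 2] 0 11 = true := by decide +kernel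

theorem uok4 : Net.okb 11 un4 = true := by decide +kernel

theorem rel4 : U.rel 11 [9, 2, 3, 2, 3, 2, 4, 2, 3, 2, 4, 2, 3, 2, 4, 2, 3, 2, 3, 2, 4, 2, 4, 2, 4, 2, 3, 2, 4, 2, 3, 2, 4, 2, 4, 2, 4, 2, 3, 2, 4, 2, 3, 2, 4, 1, 3, 1, 3, 1, 3, 1, 4, 1, 3, 1, 3, 1, 3, 1, 3, 1, 6, 2, 4, 2, 4, 2, 4, 2, 4, 2, 3, 2, 4, 2, 4, 2, 4, 2] 0 11 = true := by decide +kernel

theorem uok5 : Net.okb 11 un5 = true := by decide +kernel

theorem rel5 : U.rel 11 [11, 3, 2, 4, 2, 3, 2, 4, 2, 4, 2, 4, 2, 3, 2, 4, 2, 4, 2, 4, 2, 4, 2, 4, 2, 3, 2, 3, 2, 3, 2, 3, 2, 4, 2, 4, 2, 4, 2, 3, 2, 3, 2, 4, 2, 4, 2, 4, 2, 3, 2, 4, 2, 4, 1, 4, 1, 3, 1, 3, 1, 3, 1, 3, 1, 4, 1, 6, 2, 3, 2, 4, 2, 4, 2, 4, 2, 4, 2, 3, 2] 0 11 = true := by decide +kernel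

theorem uok6 : Net.okb 11 un6 = true := by decide +kernel

theorem rel6 : U.rel 11 [13, 3, 2, 4, 2, 3, 2, 4, 2, 3, 2, 3, 2, 3, 2, 4, 2, 3, 2, 4, 2, 3, 2, 3, 2, 3, 2, 4, 2, 4, 2, 3, 2, 4, 2, 3, 2, 4, 2, 3, 3, 1, 4, 1, 3, 1, 3, 1, 3, 1, 3, 1, 6, 2, 4, 2, 4, 2, 4, 2, 4, 2, 3, 2, 4, 2, 4, 2, 4, 2] 0 11 = true := by decide +kernel

theorem uok7 : Net.okb 11 un7 = true := by decide +kernel

theorem rel7 : U.rel 11 [15, 2, 4, 2, 4, 2, 4, 2, 4, 2, 4, 2, 3, 2, 4, 2, 4, 2, 4, 2, 3, 2, 3, 2, 3, 2, 3, 2, 3, 2, 3, 2, 3, 2, 3, 2, 3, 2, 4, 2, 3, 2, 3, 2, 3, 2, 3, 2, 4, 2, 3, 2, 4, 4, 1, 3, 1, 3, 1, 4, 1, 4, 1, 4, 1, 4, 1, 3, 1, 4, 1, 6, 2, 3, 2, 4, 2, 3, 2, 3, 2, 3, 2, 3, 2, 4, 2, 4, 2, 3, 2, 4] 0 11 = true := by decide +kernel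

theorem uok8 : Net.okb 11 un8 = true := by decide +kernel

theorem rel8 : U.rel 11 [17, 4, 2, 4, 2, 3, 2, 3, 2, 3, 2, 3, 2, 3, 2, 3, 2, 3, 2, 4, 2, 4, 2, 4, 2, 3, 2, 4, 2, 3, 2, 4, 2, 3, 2, 3, 2, 3, 2, 4, 2, 3, 2, 3, 2, 3, 2, 3, 2, 3, 2, 3, 2, 3, 3, 1, 3, 1, 3, 1, 4, 1, 4, 1, 4, 1, 3, 1, 4, 1, 4, 1, 4, 1, 6, 2, 3, 2, 3, 2, 3, 2, 4, 2, 3, 2, 3, 2, 3, 2, 4, 2, 4, 2, 4] 0 11 = true := by decide +kernel

theorem uok9 : Net.okb 11 un9 = true := by decide +kernel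

theorem rel9 : U.rel 11 [19, 2, 3, 2, 4, 2, 4, 2, 3, 2, 4, 2, 3, 2, 3, 2, 3, 2, 4, 2, 4, 2, 3, 2, 3, 2, 4, 2, 3, 2, 4, 2, 3, 2, 4, 2, 3, 2, 3, 2, 3, 2, 4, 2, 3, 2, 3, 2, 3, 2, 3, 2, 4, 2, 3, 2, 4, 4, 1, 4, 1, 4, 1, 4, 1, 3, 1, 4, 1, 3, 1, 4, 1, 3, 1, 4, 1, 3, 1, 6, 2, 4, 2, 3, 2, 4, 2, 3, 2, 4, 2, 3, 2, 4, 2, 3, 2, 3, 2, 3, 2, 3] 0 11 = true := by decide +kernel

theorem uok10 : Net.okb 11 un10 = true := by decide +kernel

theorem rel10 : U.rel 11 [21, 2, 4, 2, 3, 2, 4, 2, 3, 2, 4, 2, 4, 2, 4, 2, 3, 2, 4, 2, 4, 2, 4, 2, 4, 2, 4, 2, 4, 2, 3, 2, 3, 2, 4, 2, 4, 2, 3, 2, 3, 2, 3, 2, 3, 2, 3, 2, 4, 2, 3, 3, 1, 4, 1, 3, 1, 4, 1, 4, 1, 3, 1, 3, 1, 3, 1, 3, 1, 4, 1, 4, 1, 6, 2, 3, 2, 3, 2, 4, 2, 4, 2, 4, 2, 4, 2, 3, 2, 3, 2, 4, 2, 3, 2, 4] 0 11 = true := by decide +kernel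

theorem uok11 : Net.okb 11 un11 = true := by decide +kernel

theorem rel11 : U.rel 11 [23, 2, 4, 2, 3, 2, 3, 2, 4, 2, 4, 2, 3, 2, 3, 2, 3, 2, 3, 2, 4, 2, 3, 2, 3, 2, 3, 2, 4, 2, 3, 2, 3, 2, 3, 2, 3, 2, 4, 2, 3, 2, 3, 2, 3, 2, 3, 2, 3, 2, 4, 4, 1, 6, 4, 1, 4, 1, 4, 1, 6, 2, 3, 2, 3, 2, 3, 2, 3, 2, 3] 0 11 = true := by decide +kernel

theorem uok12 : Net.okb 11 un12 = true := by decide +kernel

theorem rel12 : U.rel 11 [25, 4, 2, 4, 2, 3, 2, 4, 2, 4, 2, 4, 2, 4, 2, 3, 2, 4, 2, 3, 2, 4, 2, 4, 2, 4, 2, 3, 2, 4, 2, 3, 2, 4, 2, 3, 2, 3, 2, 4, 2, 4, 2, 3, 2, 3, 2, 4, 2, 3, 3, 1, 3, 1, 3, 1, 3, 1, 3, 1, 4, 1, 4, 1, 6, 2, 3, 2, 3, 2, 4, 2, 4, 2, 4, 2, 4, 2, 4, 2] 0 11 = true := by decide +kernel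

theorem uok13 : Net.okb 11 un13 = true := by decide +kernel

theorem rel13 : U.rel 11 [27, 2, 4, 2, 4, 2, 4, 2, 3, 2, 4, 2, 3, 2, 4, 2, 4, 2, 3, 2, 3, 2, 3, 2, 4, 2, 4, 2, 3, 2, 3, 2, 3, 2, 3, 2, 3, 2, 3, 2, 4, 2, 4, 2, 4, 2, 4, 1, 4, 1, 4, 1, 3, 1, 4, 1, 3, 1, 4, 1, 4, 1, 3, 1, 4, 1, 3, 1, 6, 2, 4, 2, 3, 2, 4, 2, 3, 2, 3, 2, 4, 2, 3, 2, 4, 2, 3, 2, 3, 2, 3] 0 11 = true := by decide +kernel

theorem uok14 : Net.okb 11 un14 = true := by decide +kernel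

theorem rel14 : U.rel 11 [29, 3, 2, 4, 2, 3, 2, 4, 2, 3, 2, 4, 2, 3, 2, 3, 2, 3, 2, 3, 2, 3, 2, 4, 2, 3, 2, 4, 2, 3, 2, 3, 2, 3, 2, 3, 2, 3, 2, 4, 2, 4, 2, 4, 2, 3, 2, 4, 2, 3, 2, 3, 2, 4, 2, 3, 1, 4, 1, 3, 1, 4, 1, 4, 1, 3, 1, 3, 1, 6, 2, 4, 2, 4, 2, 3, 2, 3, 2, 4, 2, 3, 2, 4] 0 11 = true := by decide +kernel

theorem uok15 : Net.okb 11 un15 = true := by decide +kernel

theorem rel15 : U.rel 11 [31, 2, 4, 2, 3, 2, 3, 2, 4, 2, 4, 2, 4, 2, 4, 2, 3, 2, 4, 2, 4, 2, 3, 2, 3, 2, 4, 2, 4, 2, 4, 2, 4, 2, 3, 2, 4, 2, 3, 2, 4, 2, 3, 2, 4, 4, 1, 3, 1, 4, 1, 3, 1, 4, 1, 3, 1, 3, 1, 4, 1, 4, 1, 6, 2, 3, 2, 3, 2, 4, 2, 4, 2, 3, 2, 4, 2, 3, 2, 4, 2, 3, 2, 4] 0 11 = true := by decide +kernel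

theorem uok16 : Net.okb 11 un16 = true := by decide +kernel

theorem rel16 : U.rel 11 [33, 3, 2, 3, 2, 3, 2, 4, 2, 4, 2, 3, 2, 3, 2, 4, 2, 4, 2, 4, 2, 4, 2, 4, 2, 4, 2, 4, 2, 4, 2, 4, 2, 3, 2, 4, 2, 3, 2, 3, 2, 3, 2, 3, 2, 3, 2, 4, 4, 1, 4, 1, 6, 2, 3, 2, 3, 1, 4, 1, 3, 1, 6, 2, 4, 2, 3, 2] 0 11 = true := by decide +kernel

theorem uok17 : Net.okb 11 un17 = true := by decide +kernel

theorem rel18 : U.rel 11 [35, 7, 7, 9, 9, 9, 9, 7, 9, 7, 7, 7, 9, 7, 7, 9, 7, 7, 7, 9, 7, 7] 0 11 = true := by decide +kernel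

theorem uok18 : Net.okb 11 un18 = true := by decide +kernel

theorem rel19 : U.rel 11 [37, 7, 7, 7, 9, 9, 9, 7, 7, 7, 7, 7, 9, 9, 7, 9, 7, 7, 7, 9, 9, 7, 7, 7, 7, 9, 9, 7, 9, 9, 9, 7, 9] 0 11 = true := by decide +kernel

theorem gr21 : sub M20 (U.growI W17 [0, 1, 1, 0, 0, 1, 1, 0, 0, 1, 1, 0, 0, 1, 1, 0, 0, 1, 1, 0] (Nat.shiftLeft 1 1)) = true := by decide +kernel

theorem cl23 : band (U.closedW W17 M20) (sub (Nat.shiftLeft 1 1) M20) = true := by decide +kernel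

theorem sz24 : sizeOk 11 M20 1536 = true := by decide +kernel

theorem fx27 : U.closedW W26 (Nat.shiftLeft 1 1) = true := by decide +kernel

theorem uok19 : Net.okb 11 un19 = true := by decide +kernel

theorem rel28 : U.rel 11 [39, 35, 35, 37, 35, 35, 37, 37, 37, 37, 35, 35] 0 11 = true := by decide +kernel

theorem uok20 : Net.okb 11 un20 = true := by decide +kernel

theorem rel29 : U.rel 11 [41, 37, 37, 35, 35, 35, 35, 35, 37, 37, 37, 37, 37, 37, 37, 37, 37, 37, 35, 37, 37, 35, 35, 35, 37, 35] 0 11 = true := by decide +kernel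

theorem gr31 : sub M30 (U.growI W26 [0, 1, 1, 0, 0, 1, 1, 0, 0, 1, 1, 0, 0, 1, 1, 0, 0, 1, 1, 0] (Nat.shiftLeft 1 18)) = true := by decide +kernel

theorem cl33 : band (U.closedW W26 M30) (sub (Nat.shiftLeft 1 18) M30) = true := by decide +kernel

theorem sz34 : sizeOk 11 M30 896 = true := by decide +kernel

theorem fx37 : U.closedW W36 (Nat.shiftLeft 1 18) = true := by decide +kernel

theorem gr39 : sub M38 (U.growI W36 [0, 1, 1, 0, 1, 1, 0] (Nat.shiftLeft 1 5)) = true := by decide +kernel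

theorem cl41 : band (U.closedW W36 M38) (sub (Nat.shiftLeft 1 5) M38) = true := by decide +kernel

theorem sz42 : sizeOk 11 M38 24 = true := by decide +kernel

theorem uok21 : Net.okb 11 un21 = true := by decide +kernel

theorem rel47 : U.rel 11 [43, 13, 13, 11, 13, 11, 13, 11, 13, 13, 11, 13, 13, 13, 13, 13, 11, 13, 11, 11, 11, 11, 11, 11, 11, 11, 13, 11, 13, 13, 11, 11, 11, 13, 13, 13] 0 11 = true := by decide +kernel

theorem uok22 : Net.okb 11 un22 = true := by decide +kernel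

theorem rel48 : U.rel 11 [45, 13, 13, 13, 11, 11, 13, 11, 11, 13, 13, 13, 13, 13, 13, 13, 13, 11, 11, 13, 13, 13, 13, 11, 11, 13, 11, 11, 11, 13, 11, 11, 13, 11, 11, 13] 0 11 = true := by decide +kernel

theorem gr50 : sub M49 (U.growI W46 [0, 1, 1, 0, 0, 1, 1, 0, 0, 1, 1, 0, 0, 1, 1, 0, 0, 1, 1, 0] (Nat.shiftLeft 1 1)) = true := by decide +kernel

theorem cl52 : band (U.closedW W46 M49) (sub (Nat.shiftLeft 1 1) M49) = true := by decide +kernel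

theorem sz53 : sizeOk 11 M49 1536 = true := by decide +kernel

theorem fx56 : U.closedW W55 (Nat.shiftLeft 1 1) = true := by decide +kernel

theorem uok23 : Net.okb 11 un23 = true := by decide +kernel

theorem rel57 : U.rel 11 [47, 45, 43, 45, 43, 43, 43, 43, 43, 45, 43, 43, 43] 0 11 = true := by decide +kernel

theorem uok24 : Net.okb 11 un24 = true := by decide +kernel

theorem rel58 : U.rel 11 [49, 45, 45, 45, 45, 45, 45, 45, 45, 45, 43, 45, 45, 45, 43, 43, 43, 45, 43, 45, 45, 45, 43, 45, 43, 43, 43, 45, 43] 0 11 = true := by decide +kernel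

theorem gr60 : sub M59 (U.growI W55 [0, 1, 1, 0, 0, 1, 1, 0, 0, 1, 1, 0, 0, 1, 1, 0, 0, 1, 1, 0] (Nat.shiftLeft 1 18)) = true := by decide +kernel

theorem cl62 : band (U.closedW W55 M59) (sub (Nat.shiftLeft 1 18) M59) = true := by decide +kernel

theorem sz63 : sizeOk 11 M59 896 = true := by decide +kernel

theorem fx66 : U.closedW W65 (Nat.shiftLeft 1 18) = true := by decide +kernel

theorem gr68 : sub M67 (U.growI W65 [0, 1, 1, 0, 0, 1, 1, 0] (Nat.shiftLeft 1 5)) = true := by decide +kernel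

theorem cl70 : band (U.closedW W65 M67) (sub (Nat.shiftLeft 1 5) M67) = true := by decide +kernel

theorem sz71 : sizeOk 11 M67 24 = true := by decide +kernel

theorem uok25 : Net.okb 11 un25 = true := by decide +kernel

theorem rel76 : U.rel 11 [51, 17, 17, 17, 17, 15, 17, 15, 15, 15, 15, 15, 17, 15, 17, 17, 15, 17, 15, 15, 17, 15] 0 11 = true := by decide +kernel

theorem uok26 : Net.okb 11 un26 = true := by decide +kernel

theorem rel77 : U.rel 11 [53, 17, 15, 15, 17, 17, 15, 17, 17, 17, 15, 15, 15, 17, 17, 17, 15, 15, 17, 17, 15, 15, 17, 15, 15, 15, 17] 0 11 = true := by decide +kernel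

theorem gr79 : sub M78 (U.growI W75 [0, 1, 1, 0, 0, 1, 1, 0, 0, 1, 1, 0, 0, 1, 1, 0, 0, 1, 1, 0, 0] (Nat.shiftLeft 1 0)) = true := by decide +kernel

theorem cl81 : band (U.closedW W75 M78) (sub (Nat.shiftLeft 1 0) M78) = true := by decide +kernel

theorem sz82 : sizeOk 11 M78 1920 = true := by decide +kernel

theorem fx85 : U.closedW W84 (Nat.shiftLeft 1 0) = true := by decide +kernel

theorem uok27 : Net.okb 11 un27 = true := by decide +kernel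

theorem rel86 : U.rel 11 [55, 51, 51, 53, 51, 51, 51, 51, 53, 53, 53, 51, 51, 51, 53, 51, 51, 53, 53, 53] 0 11 = true := by decide +kernel

theorem uok28 : Net.okb 11 un28 = true := by decide +kernel

theorem rel87 : U.rel 11 [57, 51, 51, 53, 51, 51, 51, 51, 53, 53, 51, 53, 51, 51, 53, 51, 51, 53, 51, 53, 51, 53, 53, 53, 53, 53] 0 11 = true := by decide +kernel

theorem gr89 : sub M88 (U.growI W84 [0, 1, 1, 0, 0, 1, 1, 0, 0, 1, 1, 0, 0, 1, 1, 0, 0, 1] (Nat.shiftLeft 1 11)) = true := by decide +kernel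

theorem cl91 : band (U.closedW W84 M88) (sub (Nat.shiftLeft 1 11) M88) = true := by decide +kernel

theorem sz92 : sizeOk 11 M88 768 = true := by decide +kernel

theorem fx95 : U.closedW W94 (Nat.shiftLeft 1 11) = true := by decide +kernel

theorem gr97 : sub M96 (U.growI W94 [0, 1, 0, 1, 0, 1] (Nat.shiftLeft 1 5)) = true := by decide +kernel

theorem cl99 : band (U.closedW W94 M96) (sub (Nat.shiftLeft 1 5) M96) = true := by decide +kernel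

theorem sz100 : sizeOk 11 M96 12 = true := by decide +kernel

theorem uok29 : Net.okb 11 un29 = true := by decide +kernel

theorem rel105 : U.rel 11 [59, 19, 19, 19, 19, 21, 21, 19, 21, 21, 19, 21, 21, 19, 21, 21, 19, 21, 19, 19, 19, 21, 21, 21, 19, 19, 21, 21, 19, 21, 19] 0 11 = true := by decide +kernel

theorem uok30 : Net.okb 11 un30 = true := by decide +kernel

theorem rel106 : U.rel 11 [61, 21, 19, 21, 19, 19, 21, 19, 19, 19, 19, 21, 21, 19, 19, 21, 19, 21, 21, 21, 19, 19, 21, 21, 21, 19] 0 11 = true := by decide +kernel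

theorem gr108 : sub M107 (U.growI W104 [0, 1, 1, 0, 0, 1, 1, 0, 0, 1, 1, 0, 0, 1, 1, 0, 0, 1, 1, 0] (Nat.shiftLeft 1 1)) = true := by decide +kernel

theorem cl110 : band (U.closedW W104 M107) (sub (Nat.shiftLeft 1 1) M107) = true := by decide +kernel

theorem sz111 : sizeOk 11 M107 1536 = true := by decide +kernel

theorem fx114 : U.closedW W113 (Nat.shiftLeft 1 1) = true := by decide +kernel

theorem gr116 : sub M115 (U.growI W113 [0, 1, 1, 0, 0, 1, 1, 0, 0, 1, 1, 0, 0, 1, 1, 0] (Nat.shiftLeft 1 6)) = true := by decide +kernel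

theorem cl118 : band (U.closedW W113 M115) (sub (Nat.shiftLeft 1 6) M115) = true := by decide +kernel

theorem sz119 : sizeOk 11 M115 96 = true := by decide +kernel

theorem uok31 : Net.okb 11 un31 = true := by decide +kernel

theorem rel123 : U.rel 11 [63, 23, 25, 23, 25, 25, 23, 23, 25, 23, 23, 23, 25, 23, 25, 23, 23, 25, 25, 25, 23] 0 11 = true := by decide +kernel

theorem uok32 : Net.okb 11 un32 = true := by decide +kernel

theorem rel124 : U.rel 11 [65, 25, 23, 23, 23, 23, 23, 23, 23, 25, 25, 25, 23, 23, 23, 23, 25, 25, 25, 23, 23, 25, 23, 25, 23, 25, 23, 25, 23, 23, 25, 25, 23, 25, 23, 23, 23, 25, 23] 0 11 = true := by decide +kernel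

theorem uok33 : Net.okb 11 un33 = true := by decide +kernel

theorem rel125 : U.rel 11 [67, 25, 23, 25, 25, 23, 23, 23, 25, 25, 25, 23, 25, 25, 23, 25, 25, 23, 23, 25, 23, 23, 25, 23, 23, 23, 25, 23, 25, 23, 25, 23, 23, 25, 23, 23, 25, 25, 25, 25, 23, 23, 23, 25, 23, 23, 23, 23, 25, 25] 0 11 = true := by decide +kernel

theorem gr127 : sub M126 (U.growI W122 [0, 1, 1, 0, 0, 1, 1, 0, 0, 1, 1, 0, 0, 1, 1, 0, 0, 1, 1, 0, 0] (Nat.shiftLeft 1 2)) = true := by decide +kernel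

theorem cl129 : band (U.closedW W122 M126) (sub (Nat.shiftLeft 1 2) M126) = true := by decide +kernel

theorem sz130 : sizeOk 11 M126 960 = true := by decide +kernel

theorem fx133 : U.closedW W132 (Nat.shiftLeft 1 2) = true := by decide +kernel

theorem gr135 : sub M134 (U.growI W132 [0, 1, 2, 1, 0, 0] (Nat.shiftLeft 1 1)) = true := by decide +kernel

theorem cl137 : band (U.closedW W132 M134) (sub (Nat.shiftLeft 1 1) M134) = true := by decide +kernel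

theorem sz138 : sizeOk 11 M134 16 = true := by decide +kernel

theorem uok34 : Net.okb 11 un34 = true := by decide +kernel

theorem rel142 : U.rel 11 [69, 29, 29, 27, 29, 27, 29, 27, 29, 27, 29, 27, 27, 27, 27, 29, 27, 29, 29] 0 11 = true := by decide +kernel

theorem uok35 : Net.okb 11 un35 = true := by decide +kernel

theorem rel143 : U.rel 11 [71, 27, 29, 29, 29, 29, 27, 27, 27, 27, 27, 29, 29, 27, 29, 27, 29, 27, 29, 27, 27, 27, 27, 29, 29, 29, 29, 27, 27, 29, 29, 27, 27, 29, 29] 0 11 = true := by decide +kernel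

theorem gr145 : sub M144 (U.growI W141 [0, 1, 1, 0, 0, 1, 1, 0, 0, 1, 1, 0, 0, 1, 1, 0, 0, 1, 1, 0] (Nat.shiftLeft 1 0)) = true := by decide +kernel

theorem cl147 : band (U.closedW W141 M144) (sub (Nat.shiftLeft 1 0) M144) = true := by decide +kernel

theorem sz148 : sizeOk 11 M144 1536 = true := by decide +kernel

theorem fx151 : U.closedW W150 (Nat.shiftLeft 1 0) = true := by decide +kernel

theorem gr153 : sub M152 (U.growI W150 [0, 1, 0] (Nat.shiftLeft 1 1)) = true := by decide +kernel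

theorem cl155 : band (U.closedW W150 M152) (sub (Nat.shiftLeft 1 1) M152) = true := by decide +kernel

theorem sz156 : sizeOk 11 M152 6 = true := by decide +kernel

theorem gr161 : sub M160 (U.growI W159 [1, 1, 0, 0, 1, 1, 0, 0, 1, 1, 0, 0, 1, 1, 0, 0, 1, 1, 0, 0, 1, 1, 0, 0] (Nat.shiftLeft 1 1225)) = true := by decide +kernel

theorem cl163 : band (U.closedW W159 M160) (sub (Nat.shiftLeft 1 1225) M160) = true := by decide +kernel

theorem sz164 : sizeOk 11 M160 2024 = true := by decide +kernel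

theorem fx167 : U.closedW W166 (Nat.shiftLeft 1 1225) = true := by decide +kernel

theorem gr169 : sub M168 (U.growI W166 [0, 0] (Nat.shiftLeft 1 0)) = true := by decide +kernel

theorem cl171 : band (U.closedW W166 M168) (sub (Nat.shiftLeft 1 0) M168) = true := by decide +kernel

theorem sz172 : sizeOk 11 M168 3 = true := by decide +kernel

end Cfsg.Agent.Spor.J4N.VB
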