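import Cfsg.Agent.Spor.Prim
import Cfsg.Agent.Spor.J4N.Main
import Cfsg.Agent.Spor.J4N.VB.C0
import Cfsg.Agent.Spor.TT2
import Cfsg.Agent.Spor.DE3
import Cfsg.Agent.Spor.J4N.Grp

set_option autoImplicit false
set_option maxRecDepth 100000000
set_option Elab.async false

namespace Cfsg.Agent.Spor.J4N.VB

theorem hU : U.Ok 11 := U.ok_of 11 (show AllP (fun n => Net.okb 11 n = true) [n0, n1, n2, un3, un4, un5, un6, un7, un8, un9, un10, un11, un12, un13, un14, un15, un16, un17, un18, un19, un20, un21, un22, un23, un24, un25, un26, un27, un28, un29, un30, un31, un32, un33, un34, un35] from AllP.cons ok0 (AllP.cons ok1 (AllP.cons ok2 (AllP.cons uok3 (AllP.cons uok4 (AllP.cons uok5 (AllP.cons uok6 (AllP.cons uok7 (AllP.cons uok8 (AllP.cons uok9 (AllP.cons uok10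 (AllP.cons uok11 (AllP.cons uok12 (AllP.cons uok13 (AllP.cons uok14 (AllP.cons uok15 (AllP.cons uok16 (AllP.cons uok17 (AllP.cons uok18 (AllP.cons uok19 (AllP.cons uok20 (AllP.cons uok21 (AllP.cons uok22 (AllP.cons uok23 (AllP.cons uok24 (AllP.cons uok25 (AllP.cons uok26 (AllP.cons uok27 (AllP.cons uok28 (AllP.cons uok29 (AllP.cons uok30 (AllP.cons uok31 (AllP.cons uok32 (AllP.cons uok33 (AllP.cons uok34 (AllP.cons uok35 (AllP.nil)))))))))))))))))))))))))))))))))))))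

theorem hfP : ∀ j < 3, U.fP [1, 3, 5] j = fP j := by
  intro j hj
  interval_cases j <;> rfl
theorem eG : gsub 3 fP = U.lsub W1 := (gsub_congr hfP).symm.trans (lsub_eq_gsub U [1, 3, 5])
theorem upz1 : ev (atm 3 fP) [0] = U.τ 1 := pz1
theorem upz3 : ev (atm 3 fP) [2] = U.τ 3 := pz2
theorem upz5 : ev (atm 3 fP) [4] = U.τ 5 := pz3
theorem eH : wsub 3 fP BW = U.lsub W2 :=
  lsub_eq_of_all₂ (show List.Forall₂ _ [] [] from List.Forall₂.nil)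
theorem vpz1 : PZ U (atm 3 fP) EXU 1 := pz1
theorem vpz2 : PZ U (atm 3 fP) EXU 2 := PZ.of_inv hiv vpz1 (by decide +kernel)
theorem vpz3 : PZ U (atm 3 fP) EXU 3 := pz2
theorem vpz4 : PZ U (atm 3 fP) EXU 4 := PZ.of_inv hiv vpz3 (by decide +kernel)
theorem vpz5 : PZ U (atm 3 fP) EXU 5 := pz3
theorem vpz6 : PZ U (atm 3 fP) EXU 6 := PZ.of_inv hiv vpz5 (by decide +kernel)
theorem vpz7 : PZ U (atm 3 fP) EXU 7 := PZ.of_def hiv (d := [4, 2, 3, 2, 4, 2, 3, 2, 4, 2, 3, 2, 4, 2, 3, 2, 3, 2, 3, 2, 3, 2, 3, 2, 3, 2, 3, 2, 4, 2, 4, 2, 4, 2, 3, 2, 4, 2, 3, 2, 4, 2, 3, 2, 4, 1, 3, 1, 3, 1, 3, 1, 3, 1, 4, 1, 3, 1, 4, 1, 6, 2, 3, 2, 4, 2, 3, 2, 4, 2, 4, 2, 4, 2, 4, 2]) (AllP.cons vpz4 (AllP.cons vpz2 (AllP.cons vpz3 (AllP.cons vpz2 (AllP.cons vpz4 (AllP.cons vpz2 (AllP.cons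 vpz3 (AllP.cons vpz2 (AllP.cons vpz4 (AllP.cons vpz2 (AllP.cons vpz3 (AllP.cons vpz2 (AllP.cons vpz4 (AllP.cons vpz2 (AllP.cons vpz3 (AllP.cons vpz2 (AllP.cons vpz3 (AllP.cons vpz2 (AllP.cons vpz3 (AllP.cons vpz2 (AllP.cons vpz3 (AllP.cons vpz2 (AllP.cons vpz3 (AllP.cons vpz2 (AllP.cons vpz3 (AllP.cons vpz2 (AllP.cons vpz3 (AllP.cons vpz2 (AllP.cons vpz4 (AllP.cons vpz2 (AllP.cons vpz4 (AllP.cons vpz2 (AllP.cons vpz4 (AllP.cons vpz2 (AllP.cons vpz3 (AllP.cons vpz2 (AllP.cons vpz4 (AllP.cons vpz2 (AllP.cons vpz3 (AllP.cons vpz2 (AllP.cons vpz4 (AllP.cons vpz2 (AllP.cons vpz3 (AllP.cons vpz2 (AllP.cons vpz4 (AllP.cons vpz1 (AllP.cons vpz3 (AllP.cons vpz1 (AllP.cons vpz3 (AllP.cons vpz1 (AllP.cons vpz3 (AllP.cons vpz1 (AllP.cons vpz3 (AllP.cons vpz1 (AllP.cons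 vpz4 (AllP.cons vpz1 (AllP.cons vpz3 (AllP.cons vpz1 (AllP.cons vpz4 (AllP.cons vpz1 (AllP.cons vpz6 (AllP.cons vpz2 (AllP.cons vpz3 (AllP.cons vpz2 (AllP.cons vpz4 (AllP.cons vpz2 (AllP.cons vpz3 (AllP.cons vpz2 (AllP.cons vpz4 (AllP.cons vpz2 (AllP.cons vpz4 (AllP.cons vpz2 (AllP.cons vpz4 (AllP.cons vpz2 (AllP.cons vpz4 (AllP.cons vpz2 (AllP.nil))))))))))))))))))))))))))))))))))))))))))))))))))))))))))))))))))))))))))))) (hU.one rel3) (by decide +kernel)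
theorem vpz8 : PZ U (atm 3 fP) EXU 8 := PZ.of_inv hiv vpz7 (by decide +kernel)
theorem vpz9 : PZ U (atm 3 fP) EXU 9 := PZ.of_def hiv (d := [2, 3, 2, 3, 2, 4, 2, 3, 2, 4, 2, 3, 2, 4, 2, 3, 2, 3, 2, 4, 2, 4, 2, 4, 2, 3, 2, 4, 2, 3, 2, 4, 2, 4, 2, 4, 2, 3, 2, 4, 2, 3, 2, 4, 1, 3, 1, 3, 1, 3, 1, 4, 1, 3, 1, 3, 1, 3, 1, 3, 1, 6, 2, 4, 2, 4, 2, 4, 2, 4, 2, 3, 2, 4, 2, 4, 2, 4, 2]) (AllP.cons vpz2 (AllP.cons vpz3 (AllP.cons vpz2 (AllP.cons vpz3 (AllP.cons vpz2 (AllP.cons vpz4 (AllP.cons vpz2 (AllP.cons vpz3 (AllP.cons vpz2 (AllP.cons vpz4 (AllP.cons vpz2 (AllP.cons vpz3 (AllP.cons vpz2 (AllP.cons vpz4 (AllP.cons vpz2 (AllP.cons vpz3 (AllP.cons vpz2 (AllP.cons vpz3 (AllP.cons vpz2 (AllP.cons vpz4 (AllP.cons vpz2 (AllP.cons vpz4 (AllP.cons vpz2 (AllP.cons vpz4 (AllP.cons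 vpz2 (AllP.cons vpz3 (AllP.cons vpz2 (AllP.cons vpz4 (AllP.cons vpz2 (AllP.cons vpz3 (AllP.cons vpz2 (AllP.cons vpz4 (AllP.cons vpz2 (AllP.cons vpz4 (AllP.cons vpz2 (AllP.cons vpz4 (AllP.cons vpz2 (AllP.cons vpz3 (AllP.cons vpz2 (AllP.cons vpz4 (AllP.cons vpz2 (AllP.cons vpz3 (AllP.cons vpz2 (AllP.cons vpz4 (AllP.cons vpz1 (AllP.cons vpz3 (AllP.cons vpz1 (AllP.cons vpz3 (AllP.cons vpz1 (AllP.cons vpz3 (AllP.cons vpz1 (AllP.cons vpz4 (AllP.cons vpz1 (AllP.cons vpz3 (AllP.cons vpz1 (AllP.cons vpz3 (AllP.cons vpz1 (AllP.cons vpz3 (AllP.cons vpz1 (AllP.cons vpz3 (AllP.cons vpz1 (AllP.cons vpz6 (AllP.cons vpz2 (AllP.cons vpz4 (AllP.cons vpz2 (AllP.cons vpz4 (AllP.cons vpz2 (AllP.cons vpz4 (AllP.cons vpz2 (AllP.cons vpz4 (AllP.cons vpz2 (AllP.cons vpz3 (AllP.cons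 vpz2 (AllP.cons vpz4 (AllP.cons vpz2 (AllP.cons vpz4 (AllP.cons vpz2 (AllP.cons vpz4 (AllP.cons vpz2 (AllP.nil)))))))))))))))))))))))))))))))))))))))))))))))))))))))))))))))))))))))))))))))) (hU.one rel4) (by decide +kernel)
theorem vpz10 : PZ U (atm 3 fP) EXU 10 := PZ.of_inv hiv vpz9 (by decide +kernel)
theorem vpz11 : PZ U (atm 3 fP) EXU 11 := PZ.of_def hiv (d := [3, 2, 4, 2, 3, 2, 4, 2, 4, 2, 4, 2, 3, 2, 4, 2, 4, 2, 4, 2, 4, 2, 4, 2, 3, 2, 3, 2, 3, 2, 3, 2, 4, 2, 4, 2, 4, 2, 3, 2, 3, 2, 4, 2, 4, 2, 4, 2, 3, 2, 4, 2, 4, 1, 4, 1, 3, 1, 3, 1, 3, 1, 3, 1, 4, 1, 6, 2, 3, 2, 4, 2, 4, 2, 4, 2, 4, 2, 3, 2]) (AllP.cons vpz3 (AllP.cons vpz2 (AllP.cons vpz4 (AllP.cons vpz2 (AllP.cons vpz3 (AllP.cons vpz2 (AllP.cons vpz4 (AllP.cons vpz2 (AllP.cons vpz4 (AllP.cons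 vpz2 (AllP.cons vpz4 (AllP.cons vpz2 (AllP.cons vpz3 (AllP.cons vpz2 (AllP.cons vpz4 (AllP.cons vpz2 (AllP.cons vpz4 (AllP.cons vpz2 (AllP.cons vpz4 (AllP.cons vpz2 (AllP.cons vpz4 (AllP.cons vpz2 (AllP.cons vpz4 (AllP.cons vpz2 (AllP.cons vpz3 (AllP.cons vpz2 (AllP.cons vpz3 (AllP.cons vpz2 (AllP.cons vpz3 (AllP.cons vpz2 (AllP.cons vpz3 (AllP.cons vpz2 (AllP.cons vpz4 (AllP.cons vpz2 (AllP.cons vpz4 (AllP.cons vpz2 (AllP.cons vpz4 (AllP.cons vpz2 (AllP.cons vpz3 (AllP.cons vpz2 (AllP.cons vpz3 (AllP.cons vpz2 (AllP.cons vpz4 (AllP.cons vpz2 (AllP.cons vpz4 (AllP.cons vpz2 (AllP.cons vpz4 (AllP.cons vpz2 (AllP.cons vpz3 (AllP.cons vpz2 (AllP.cons vpz4 (AllP.cons vpz2 (AllP.cons vpz4 (AllP.cons vpz1 (AllP.cons vpz4 (AllP.cons vpz1 (AllP.cons vpz3 (AllP.cons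 vpz1 (AllP.cons vpz3 (AllP.cons vpz1 (AllP.cons vpz3 (AllP.cons vpz1 (AllP.cons vpz3 (AllP.cons vpz1 (AllP.cons vpz4 (AllP.cons vpz1 (AllP.cons vpz6 (AllP.cons vpz2 (AllP.cons vpz3 (AllP.cons vpz2 (AllP.cons vpz4 (AllP.cons vpz2 (AllP.cons vpz4 (AllP.cons vpz2 (AllP.cons vpz4 (AllP.cons vpz2 (AllP.cons vpz4 (AllP.cons vpz2 (AllP.cons vpz3 (AllP.cons vpz2 (AllP.nil))))))))))))))))))))))))))))))))))))))))))))))))))))))))))))))))))))))))))))))))) (hU.one rel5) (by decide +kernel)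
theorem vpz12 : PZ U (atm 3 fP) EXU 12 := PZ.of_inv hiv vpz11 (by decide +kernel)
theorem vpz13 : PZ U (atm 3 fP) EXU 13 := PZ.of_def hiv (d := [3, 2, 4, 2, 3, 2, 4, 2, 3, 2, 3, 2, 3, 2, 4, 2, 3, 2, 4, 2, 3, 2, 3, 2, 3, 2, 4, 2, 4, 2, 3, 2, 4, 2, 3, 2, 4, 2, 3, 3, 1, 4, 1, 3, 1, 3, 1, 3, 1, 3, 1, 6, 2, 4, 2, 4, 2, 4, 2, 4, 2, 3, 2, 4, 2, 4, 2, 4, 2]) (AllP.cons vpz3 (AllP.cons vpz2 (AllP.cons vpz4 (AllP.cons vpz2 (AllP.cons vpz3 (AllP.cons vpz2 (AllP.cons vpz4 (AllP.cons vpz2 (AllP.cons vpz3 (AllP.cons vpz2 (AllP.cons vpz3 (AllP.cons vpz2 (AllP.cons vpz3 (AllP.cons vpz2 (AllP.cons vpz4 (AllP.cons vpz2 (AllP.cons vpz3 (AllP.cons vpz2 (AllP.cons vpz4 (AllP.cons vpz2 (AllP.cons vpz3 (AllP.cons vpz2 (AllP.cons vpz3 (AllP.cons vpz2 (AllP.cons vpz3 (AllP.cons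 vpz2 (AllP.cons vpz4 (AllP.cons vpz2 (AllP.cons vpz4 (AllP.cons vpz2 (AllP.cons vpz3 (AllP.cons vpz2 (AllP.cons vpz4 (AllP.cons vpz2 (AllP.cons vpz3 (AllP.cons vpz2 (AllP.cons vpz4 (AllP.cons vpz2 (AllP.cons vpz3 (AllP.cons vpz3 (AllP.cons vpz1 (AllP.cons vpz4 (AllP.cons vpz1 (AllP.cons vpz3 (AllP.cons vpz1 (AllP.cons vpz3 (AllP.cons vpz1 (AllP.cons vpz3 (AllP.cons vpz1 (AllP.cons vpz3 (AllP.cons vpz1 (AllP.cons vpz6 (AllP.cons vpz2 (AllP.cons vpz4 (AllP.cons vpz2 (AllP.cons vpz4 (AllP.cons vpz2 (AllP.cons vpz4 (AllP.cons vpz2 (AllP.cons vpz4 (AllP.cons vpz2 (AllP.cons vpz3 (AllP.cons vpz2 (AllP.cons vpz4 (AllP.cons vpz2 (AllP.cons vpz4 (AllP.cons vpz2 (AllP.cons vpz4 (AllP.cons vpz2 (AllP.nil))))))))))))))))))))))))))))))))))))))))))))))))))))))))))))))))))))))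 (hU.one rel6) (by decide +kernel)
theorem vpz14 : PZ U (atm 3 fP) EXU 14 := PZ.of_inv hiv vpz13 (by decide +kernel)
theorem vpz15 : PZ U (atm 3 fP) EXU 15 := PZ.of_def hiv (d := [2, 4, 2, 4, 2, 4, 2, 4, 2, 4, 2, 3, 2, 4, 2, 4, 2, 4, 2, 3, 2, 3, 2, 3, 2, 3, 2, 3, 2, 3, 2, 3, 2, 3, 2, 3, 2, 4, 2, 3, 2, 3, 2, 3, 2, 3, 2, 4, 2, 3, 2, 4, 4, 1, 3, 1, 3, 1, 4, 1, 4, 1, 4, 1, 4, 1, 3, 1, 4, 1, 6, 2, 3, 2, 4, 2, 3, 2, 3, 2, 3, 2, 3, 2, 4, 2, 4, 2, 3, 2, 4]) (AllP.cons vpz2 (AllP.cons vpz4 (AllP.cons vpz2 (AllP.cons vpz4 (AllP.cons vpz2 (AllP.cons vpz4 (AllP.cons vpz2 (AllP.cons vpz4 (AllP.cons vpz2 (AllP.cons vpz4 (AllP.cons vpz2 (AllP.cons vpz3 (AllP.cons vpz2 (AllP.cons vpz4 (AllP.cons vpz2 (AllP.cons vpz4 (AllP.cons vpz2 (AllP.cons vpz4 (AllP.cons vpz2 (AllP.cons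 vpz3 (AllP.cons vpz2 (AllP.cons vpz3 (AllP.cons vpz2 (AllP.cons vpz3 (AllP.cons vpz2 (AllP.cons vpz3 (AllP.cons vpz2 (AllP.cons vpz3 (AllP.cons vpz2 (AllP.cons vpz3 (AllP.cons vpz2 (AllP.cons vpz3 (AllP.cons vpz2 (AllP.cons vpz3 (AllP.cons vpz2 (AllP.cons vpz3 (AllP.cons vpz2 (AllP.cons vpz4 (AllP.cons vpz2 (AllP.cons vpz3 (AllP.cons vpz2 (AllP.cons vpz3 (AllP.cons vpz2 (AllP.cons vpz3 (AllP.cons vpz2 (AllP.cons vpz3 (AllP.cons vpz2 (AllP.cons vpz4 (AllP.cons vpz2 (AllP.cons vpz3 (AllP.cons vpz2 (AllP.cons vpz4 (AllP.cons vpz4 (AllP.cons vpz1 (AllP.cons vpz3 (AllP.cons vpz1 (AllP.cons vpz3 (AllP.cons vpz1 (AllP.cons vpz4 (AllP.cons vpz1 (AllP.cons vpz4 (AllP.cons vpz1 (AllP.cons vpz4 (AllP.cons vpz1 (AllP.cons vpz4 (AllP.cons vpz1 (AllP.cons vpz3 (AllP.cons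 vpz1 (AllP.cons vpz4 (AllP.cons vpz1 (AllP.cons vpz6 (AllP.cons vpz2 (AllP.cons vpz3 (AllP.cons vpz2 (AllP.cons vpz4 (AllP.cons vpz2 (AllP.cons vpz3 (AllP.cons vpz2 (AllP.cons vpz3 (AllP.cons vpz2 (AllP.cons vpz3 (AllP.cons vpz2 (AllP.cons vpz3 (AllP.cons vpz2 (AllP.cons vpz4 (AllP.cons vpz2 (AllP.cons vpz4 (AllP.cons vpz2 (AllP.cons vpz3 (AllP.cons vpz2 (AllP.cons vpz4 (AllP.nil)))))))))))))))))))))))))))))))))))))))))))))))))))))))))))))))))))))))))))))))))))))))))))) (hU.one rel7) (by decide +kernel)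
theorem vpz16 : PZ U (atm 3 fP) EXU 16 := PZ.of_inv hiv vpz15 (by decide +kernel)
theorem vpz17 : PZ U (atm 3 fP) EXU 17 := PZ.of_def hiv (d := [4, 2, 4, 2, 3, 2, 3, 2, 3, 2, 3, 2, 3, 2, 3, 2, 3, 2, 4, 2, 4, 2, 4, 2, 3, 2, 4, 2, 3, 2, 4, 2, 3, 2, 3, 2, 3, 2, 4, 2, 3, 2, 3, 2, 3, 2, 3, 2, 3, 2, 3, 2, 3, 3, 1, 3, 1, 3, 1, 4, 1, 4, 1, 4, 1, 3, 1, 4, 1, 4, 1, 4, 1, 6, 2, 3, 2, 3, 2, 3, 2, 4, 2, 3, 2, 3, 2, 3, 2, 4, 2, 4, 2, 4]) (AllP.cons vpz4 (AllP.cons vpz2 (AllP.cons vpz4 (AllP.cons vpz2 (AllP.cons vpz3 (AllP.cons vpz2 (AllP.cons vpz3 (AllP.cons vpz2 (AllP.cons vpz3 (AllP.cons vpz2 (AllP.cons vpz3 (AllP.cons vpz2 (AllP.cons vpz3 (AllP.cons vpz2 (AllP.cons vpz3 (AllP.cons vpz2 (AllP.cons vpz3 (AllP.cons vpz2 (AllP.cons vpz4 (AllP.cons vpz2 (AllP.cons vpz4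 (AllP.cons vpz2 (AllP.cons vpz4 (AllP.cons vpz2 (AllP.cons vpz3 (AllP.cons vpz2 (AllP.cons vpz4 (AllP.cons vpz2 (AllP.cons vpz3 (AllP.cons vpz2 (AllP.cons vpz4 (AllP.cons vpz2 (AllP.cons vpz3 (AllP.cons vpz2 (AllP.cons vpz3 (AllP.cons vpz2 (AllP.cons vpz3 (AllP.cons vpz2 (AllP.cons vpz4 (AllP.cons vpz2 (AllP.cons vpz3 (AllP.cons vpz2 (AllP.cons vpz3 (AllP.cons vpz2 (AllP.cons vpz3 (AllP.cons vpz2 (AllP.cons vpz3 (AllP.cons vpz2 (AllP.cons vpz3 (AllP.cons vpz2 (AllP.cons vpz3 (AllP.cons vpz2 (AllP.cons vpz3 (AllP.cons vpz3 (AllP.cons vpz1 (AllP.cons vpz3 (AllP.cons vpz1 (AllP.cons vpz3 (AllP.cons vpz1 (AllP.cons vpz4 (AllP.cons vpz1 (AllP.cons vpz4 (AllP.cons vpz1 (AllP.cons vpz4 (AllP.cons vpz1 (AllP.cons vpz3 (AllP.cons vpz1 (AllP.cons vpz4 (AllP.cons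 vpz1 (AllP.cons vpz4 (AllP.cons vpz1 (AllP.cons vpz4 (AllP.cons vpz1 (AllP.cons vpz6 (AllP.cons vpz2 (AllP.cons vpz3 (AllP.cons vpz2 (AllP.cons vpz3 (AllP.cons vpz2 (AllP.cons vpz3 (AllP.cons vpz2 (AllP.cons vpz4 (AllP.cons vpz2 (AllP.cons vpz3 (AllP.cons vpz2 (AllP.cons vpz3 (AllP.cons vpz2 (AllP.cons vpz3 (AllP.cons vpz2 (AllP.cons vpz4 (AllP.cons vpz2 (AllP.cons vpz4 (AllP.cons vpz2 (AllP.cons vpz4 (AllP.nil))))))))))))))))))))))))))))))))))))))))))))))))))))))))))))))))))))))))))))))))))))))))))))))) (hU.one rel8) (by decide +kernel)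
theorem vpz18 : PZ U (atm 3 fP) EXU 18 := PZ.of_inv hiv vpz17 (by decide +kernel)
theorem vpz19 : PZ U (atm 3 fP) EXU 19 := PZ.of_def hiv (d := [2, 3, 2, 4, 2, 4, 2, 3, 2, 4, 2, 3, 2, 3, 2, 3, 2, 4, 2, 4, 2, 3, 2, 3, 2, 4, 2, 3, 2, 4, 2, 3, 2, 4, 2, 3, 2, 3, 2, 3, 2, 4, 2, 3, 2, 3, 2, 3, 2, 3, 2, 4, 2, 3, 2, 4, 4, 1, 4, 1, 4, 1, 4, 1, 3, 1, 4, 1, 3, 1, 4, 1, 3, 1, 4, 1, 3, 1, 6, 2, 4, 2, 3, 2, 4, 2, 3, 2, 4, 2, 3, 2, 4, 2, 3, 2, 3, 2, 3, 2, 3]) (AllP.cons vpz2 (AllP.cons vpz3 (AllP.cons vpz2 (AllP.cons vpz4 (AllP.cons vpz2 (AllP.cons vpz4 (AllP.cons vpz2 (AllP.cons vpz3 (AllP.cons vpz2 (AllP.cons vpz4 (AllP.cons vpz2 (AllP.cons vpz3 (AllP.cons vpz2 (AllP.cons vpz3 (AllP.cons vpz2 (AllP.cons vpz3 (AllP.cons vpz2 (AllP.cons vpz4 (AllP.cons vpz2 (AllP.cons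 vpz4 (AllP.cons vpz2 (AllP.cons vpz3 (AllP.cons vpz2 (AllP.cons vpz3 (AllP.cons vpz2 (AllP.cons vpz4 (AllP.cons vpz2 (AllP.cons vpz3 (AllP.cons vpz2 (AllP.cons vpz4 (AllP.cons vpz2 (AllP.cons vpz3 (AllP.cons vpz2 (AllP.cons vpz4 (AllP.cons vpz2 (AllP.cons vpz3 (AllP.cons vpz2 (AllP.cons vpz3 (AllP.cons vpz2 (AllP.cons vpz3 (AllP.cons vpz2 (AllP.cons vpz4 (AllP.cons vpz2 (AllP.cons vpz3 (AllP.cons vpz2 (AllP.cons vpz3 (AllP.cons vpz2 (AllP.cons vpz3 (AllP.cons vpz2 (AllP.cons vpz3 (AllP.cons vpz2 (AllP.cons vpz4 (AllP.cons vpz2 (AllP.cons vpz3 (AllP.cons vpz2 (AllP.cons vpz4 (AllP.cons vpz4 (AllP.cons vpz1 (AllP.cons vpz4 (AllP.cons vpz1 (AllP.cons vpz4 (AllP.cons vpz1 (AllP.cons vpz4 (AllP.cons vpz1 (AllP.cons vpz3 (AllP.cons vpz1 (AllP.cons vpz4 (AllP.cons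 vpz1 (AllP.cons vpz3 (AllP.cons vpz1 (AllP.cons vpz4 (AllP.cons vpz1 (AllP.cons vpz3 (AllP.cons vpz1 (AllP.cons vpz4 (AllP.cons vpz1 (AllP.cons vpz3 (AllP.cons vpz1 (AllP.cons vpz6 (AllP.cons vpz2 (AllP.cons vpz4 (AllP.cons vpz2 (AllP.cons vpz3 (AllP.cons vpz2 (AllP.cons vpz4 (AllP.cons vpz2 (AllP.cons vpz3 (AllP.cons vpz2 (AllP.cons vpz4 (AllP.cons vpz2 (AllP.cons vpz3 (AllP.cons vpz2 (AllP.cons vpz4 (AllP.cons vpz2 (AllP.cons vpz3 (AllP.cons vpz2 (AllP.cons vpz3 (AllP.cons vpz2 (AllP.cons vpz3 (AllP.cons vpz2 (AllP.cons vpz3 (AllP.nil)))))))))))))))))))))))))))))))))))))))))))))))))))))))))))))))))))))))))))))))))))))))))))))))))))))) (hU.one rel9) (by decide +kernel)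
theorem vpz20 : PZ U (atm 3 fP) EXU 20 := PZ.of_inv hiv vpz19 (by decide +kernel)
theorem vpz21 : PZ U (atm 3 fP) EXU 21 := PZ.of_def hiv (d := [2, 4, 2, 3, 2, 4, 2, 3, 2, 4, 2, 4, 2, 4, 2, 3, 2, 4, 2, 4, 2, 4, 2, 4, 2, 4, 2, 4, 2, 3, 2, 3, 2, 4, 2, 4, 2, 3, 2, 3, 2, 3, 2, 3, 2, 3, 2, 4, 2, 3, 3, 1, 4, 1, 3, 1, 4, 1, 4, 1, 3, 1, 3, 1, 3, 1, 3, 1, 4, 1, 4, 1, 6, 2, 3, 2, 3, 2, 4, 2, 4, 2, 4, 2, 4, 2, 3, 2, 3, 2, 4, 2, 3, 2, 4]) (AllP.cons vpz2 (AllP.cons vpz4 (AllP.cons vpz2 (AllP.cons vpz3 (AllP.cons vpz2 (AllP.cons vpz4 (AllP.cons vpz2 (AllP.cons vpz3 (AllP.cons vpz2 (AllP.cons vpz4 (AllP.cons vpz2 (AllP.cons vpz4 (AllP.cons vpz2 (AllP.cons vpz4 (AllP.cons vpz2 (AllP.cons vpz3 (AllP.cons vpz2 (AllP.cons vpz4 (AllP.cons vpz2 (AllP.cons vpz4 (AllP.cons vpz2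 (AllP.cons vpz4 (AllP.cons vpz2 (AllP.cons vpz4 (AllP.cons vpz2 (AllP.cons vpz4 (AllP.cons vpz2 (AllP.cons vpz4 (AllP.cons vpz2 (AllP.cons vpz3 (AllP.cons vpz2 (AllP.cons vpz3 (AllP.cons vpz2 (AllP.cons vpz4 (AllP.cons vpz2 (AllP.cons vpz4 (AllP.cons vpz2 (AllP.cons vpz3 (AllP.cons vpz2 (AllP.cons vpz3 (AllP.cons vpz2 (AllP.cons vpz3 (AllP.cons vpz2 (AllP.cons vpz3 (AllP.cons vpz2 (AllP.cons vpz3 (AllP.cons vpz2 (AllP.cons vpz4 (AllP.cons vpz2 (AllP.cons vpz3 (AllP.cons vpz3 (AllP.cons vpz1 (AllP.cons vpz4 (AllP.cons vpz1 (AllP.cons vpz3 (AllP.cons vpz1 (AllP.cons vpz4 (AllP.cons vpz1 (AllP.cons vpz4 (AllP.cons vpz1 (AllP.cons vpz3 (AllP.cons vpz1 (AllP.cons vpz3 (AllP.cons vpz1 (AllP.cons vpz3 (AllP.cons vpz1 (AllP.cons vpz3 (AllP.cons vpz1 (AllP.cons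 vpz4 (AllP.cons vpz1 (AllP.cons vpz4 (AllP.cons vpz1 (AllP.cons vpz6 (AllP.cons vpz2 (AllP.cons vpz3 (AllP.cons vpz2 (AllP.cons vpz3 (AllP.cons vpz2 (AllP.cons vpz4 (AllP.cons vpz2 (AllP.cons vpz4 (AllP.cons vpz2 (AllP.cons vpz4 (AllP.cons vpz2 (AllP.cons vpz4 (AllP.cons vpz2 (AllP.cons vpz3 (AllP.cons vpz2 (AllP.cons vpz3 (AllP.cons vpz2 (AllP.cons vpz4 (AllP.cons vpz2 (AllP.cons vpz3 (AllP.cons vpz2 (AllP.cons vpz4 (AllP.nil)))))))))))))))))))))))))))))))))))))))))))))))))))))))))))))))))))))))))))))))))))))))))))))))) (hU.one rel10) (by decide +kernel)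
theorem vpz22 : PZ U (atm 3 fP) EXU 22 := PZ.of_inv hiv vpz21 (by decide +kernel)
theorem vpz23 : PZ U (atm 3 fP) EXU 23 := PZ.of_def hiv (d := [2, 4, 2, 3, 2, 3, 2, 4, 2, 4, 2, 3, 2, 3, 2, 3, 2, 3, 2, 4, 2, 3, 2, 3, 2, 3, 2, 4, 2, 3, 2, 3, 2, 3, 2, 3, 2, 4, 2, 3, 2, 3, 2, 3, 2, 3, 2, 3, 2, 4, 4, 1, 6, 4, 1, 4, 1, 4, 1, 6, 2, 3, 2, 3, 2, 3, 2, 3, 2, 3]) (AllP.cons vpz2 (AllP.cons vpz4 (AllP.cons vpz2 (AllP.cons vpz3 (AllP.cons vpz2 (AllP.cons vpz3 (AllP.cons vpz2 (AllP.cons vpz4 (AllP.cons vpz2 (AllP.cons vpz4 (AllP.cons vpz2 (AllP.cons vpz3 (AllP.cons vpz2 (AllP.cons vpz3 (AllP.cons vpz2 (AllP.cons vpz3 (AllP.cons vpz2 (AllP.cons vpz3 (AllP.cons vpz2 (AllP.cons vpz4 (AllP.cons vpz2 (AllP.cons vpz3 (AllP.cons vpz2 (AllP.cons vpz3 (AllP.cons vpz2 (AllP.cons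 vpz3 (AllP.cons vpz2 (AllP.cons vpz4 (AllP.cons vpz2 (AllP.cons vpz3 (AllP.cons vpz2 (AllP.cons vpz3 (AllP.cons vpz2 (AllP.cons vpz3 (AllP.cons vpz2 (AllP.cons vpz3 (AllP.cons vpz2 (AllP.cons vpz4 (AllP.cons vpz2 (AllP.cons vpz3 (AllP.cons vpz2 (AllP.cons vpz3 (AllP.cons vpz2 (AllP.cons vpz3 (AllP.cons vpz2 (AllP.cons vpz3 (AllP.cons vpz2 (AllP.cons vpz3 (AllP.cons vpz2 (AllP.cons vpz4 (AllP.cons vpz4 (AllP.cons vpz1 (AllP.cons vpz6 (AllP.cons vpz4 (AllP.cons vpz1 (AllP.cons vpz4 (AllP.cons vpz1 (AllP.cons vpz4 (AllP.cons vpz1 (AllP.cons vpz6 (AllP.cons vpz2 (AllP.cons vpz3 (AllP.cons vpz2 (AllP.cons vpz3 (AllP.cons vpz2 (AllP.cons vpz3 (AllP.cons vpz2 (AllP.cons vpz3 (AllP.cons vpz2 (AllP.cons vpz3 (AllP.nil)))))))))))))))))))))))))))))))))))))))))))))))))))))))))))))))))))))))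 (hU.one rel11) (by decide +kernel)
theorem vpz24 : PZ U (atm 3 fP) EXU 24 := PZ.of_inv hiv vpz23 (by decide +kernel)
theorem vpz25 : PZ U (atm 3 fP) EXU 25 := PZ.of_def hiv (d := [4, 2, 4, 2, 3, 2, 4, 2, 4, 2, 4, 2, 4, 2, 3, 2, 4, 2, 3, 2, 4, 2, 4, 2, 4, 2, 3, 2, 4, 2, 3, 2, 4, 2, 3, 2, 3, 2, 4, 2, 4, 2, 3, 2, 3, 2, 4, 2, 3, 3, 1, 3, 1, 3, 1, 3, 1, 3, 1, 4, 1, 4, 1, 6, 2, 3, 2, 3, 2, 4, 2, 4, 2, 4, 2, 4, 2, 4, 2]) (AllP.cons vpz4 (AllP.cons vpz2 (AllP.cons vpz4 (AllP.cons vpz2 (AllP.cons vpz3 (AllP.cons vpz2 (AllP.cons vpz4 (AllP.cons vpz2 (AllP.cons vpz4 (AllP.cons vpz2 (AllP.cons vpz4 (AllP.cons vpz2 (AllP.cons vpz4 (AllP.cons vpz2 (AllP.cons vpz3 (AllP.cons vpz2 (AllP.cons vpz4 (AllP.cons vpz2 (AllP.cons vpz3 (AllP.cons vpz2 (AllP.cons vpz4 (AllP.cons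 vpz2 (AllP.cons vpz4 (AllP.cons vpz2 (AllP.cons vpz4 (AllP.cons vpz2 (AllP.cons vpz3 (AllP.cons vpz2 (AllP.cons vpz4 (AllP.cons vpz2 (AllP.cons vpz3 (AllP.cons vpz2 (AllP.cons vpz4 (AllP.cons vpz2 (AllP.cons vpz3 (AllP.cons vpz2 (AllP.cons vpz3 (AllP.cons vpz2 (AllP.cons vpz4 (AllP.cons vpz2 (AllP.cons vpz4 (AllP.cons vpz2 (AllP.cons vpz3 (AllP.cons vpz2 (AllP.cons vpz3 (AllP.cons vpz2 (AllP.cons vpz4 (AllP.cons vpz2 (AllP.cons vpz3 (AllP.cons vpz3 (AllP.cons vpz1 (AllP.cons vpz3 (AllP.cons vpz1 (AllP.cons vpz3 (AllP.cons vpz1 (AllP.cons vpz3 (AllP.cons vpz1 (AllP.cons vpz3 (AllP.cons vpz1 (AllP.cons vpz4 (AllP.cons vpz1 (AllP.cons vpz4 (AllP.cons vpz1 (AllP.cons vpz6 (AllP.cons vpz2 (AllP.cons vpz3 (AllP.cons vpz2 (AllP.cons vpz3 (AllP.cons vpz2 (AllP.cons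 vpz4 (AllP.cons vpz2 (AllP.cons vpz4 (AllP.cons vpz2 (AllP.cons vpz4 (AllP.cons vpz2 (AllP.cons vpz4 (AllP.cons vpz2 (AllP.cons vpz4 (AllP.cons vpz2 (AllP.nil)))))))))))))))))))))))))))))))))))))))))))))))))))))))))))))))))))))))))))))))) (hU.one rel12) (by decide +kernel)
theorem vpz26 : PZ U (atm 3 fP) EXU 26 := PZ.of_inv hiv vpz25 (by decide +kernel)
theorem vpz27 : PZ U (atm 3 fP) EXU 27 := PZ.of_def hiv (d := [2, 4, 2, 4, 2, 4, 2, 3, 2, 4, 2, 3, 2, 4, 2, 4, 2, 3, 2, 3, 2, 3, 2, 4, 2, 4, 2, 3, 2, 3, 2, 3, 2, 3, 2, 3, 2, 3, 2, 4, 2, 4, 2, 4, 2, 4, 1, 4, 1, 4, 1, 3, 1, 4, 1, 3, 1, 4, 1, 4, 1, 3, 1, 4, 1, 3, 1, 6, 2, 4, 2, 3, 2, 4, 2, 3, 2, 3, 2, 4, 2, 3, 2, 4, 2, 3, 2, 3, 2, 3]) (AllP.cons vpz2 (AllP.cons vpz4 (AllP.cons vpz2 (AllP.cons vpz4 (AllP.cons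 vpz2 (AllP.cons vpz4 (AllP.cons vpz2 (AllP.cons vpz3 (AllP.cons vpz2 (AllP.cons vpz4 (AllP.cons vpz2 (AllP.cons vpz3 (AllP.cons vpz2 (AllP.cons vpz4 (AllP.cons vpz2 (AllP.cons vpz4 (AllP.cons vpz2 (AllP.cons vpz3 (AllP.cons vpz2 (AllP.cons vpz3 (AllP.cons vpz2 (AllP.cons vpz3 (AllP.cons vpz2 (AllP.cons vpz4 (AllP.cons vpz2 (AllP.cons vpz4 (AllP.cons vpz2 (AllP.cons vpz3 (AllP.cons vpz2 (AllP.cons vpz3 (AllP.cons vpz2 (AllP.cons vpz3 (AllP.cons vpz2 (AllP.cons vpz3 (AllP.cons vpz2 (AllP.cons vpz3 (AllP.cons vpz2 (AllP.cons vpz3 (AllP.cons vpz2 (AllP.cons vpz4 (AllP.cons vpz2 (AllP.cons vpz4 (AllP.cons vpz2 (AllP.cons vpz4 (AllP.cons vpz2 (AllP.cons vpz4 (AllP.cons vpz1 (AllP.cons vpz4 (AllP.cons vpz1 (AllP.cons vpz4 (AllP.cons vpz1 (AllP.cons vpz3 (AllP.cons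 vpz1 (AllP.cons vpz4 (AllP.cons vpz1 (AllP.cons vpz3 (AllP.cons vpz1 (AllP.cons vpz4 (AllP.cons vpz1 (AllP.cons vpz4 (AllP.cons vpz1 (AllP.cons vpz3 (AllP.cons vpz1 (AllP.cons vpz4 (AllP.cons vpz1 (AllP.cons vpz3 (AllP.cons vpz1 (AllP.cons vpz6 (AllP.cons vpz2 (AllP.cons vpz4 (AllP.cons vpz2 (AllP.cons vpz3 (AllP.cons vpz2 (AllP.cons vpz4 (AllP.cons vpz2 (AllP.cons vpz3 (AllP.cons vpz2 (AllP.cons vpz3 (AllP.cons vpz2 (AllP.cons vpz4 (AllP.cons vpz2 (AllP.cons vpz3 (AllP.cons vpz2 (AllP.cons vpz4 (AllP.cons vpz2 (AllP.cons vpz3 (AllP.cons vpz2 (AllP.cons vpz3 (AllP.cons vpz2 (AllP.cons vpz3 (AllP.nil))))))))))))))))))))))))))))))))))))))))))))))))))))))))))))))))))))))))))))))))))))))))))) (hU.one rel13) (by decide +kernel)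
theorem vpz28 : PZ U (atm 3 fP) EXU 28 := PZ.of_inv hiv vpz27 (by decide +kernel)
theorem vpz29 : PZ U (atm 3 fP) EXU 29 := PZ.of_def hiv (d := [3, 2, 4, 2, 3, 2, 4, 2, 3, 2, 4, 2, 3, 2, 3, 2, 3, 2, 3, 2, 3, 2, 4, 2, 3, 2, 4, 2, 3, 2, 3, 2, 3, 2, 3, 2, 3, 2, 4, 2, 4, 2, 4, 2, 3, 2, 4, 2, 3, 2, 3, 2, 4, 2, 3, 1, 4, 1, 3, 1, 4, 1, 4, 1, 3, 1, 3, 1, 6, 2, 4, 2, 4, 2, 3, 2, 3, 2, 4, 2, 3, 2, 4]) (AllP.cons vpz3 (AllP.cons vpz2 (AllP.cons vpz4 (AllP.cons vpz2 (AllP.cons vpz3 (AllP.cons vpz2 (AllP.cons vpz4 (AllP.cons vpz2 (AllP.cons vpz3 (AllP.cons vpz2 (AllP.cons vpz4 (AllP.cons vpz2 (AllP.cons vpz3 (AllP.cons vpz2 (AllP.cons vpz3 (AllP.cons vpz2 (AllP.cons vpz3 (AllP.cons vpz2 (AllP.cons vpz3 (AllP.cons vpz2 (AllP.cons vpz3 (AllP.cons vpz2 (AllP.cons vpz4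 (AllP.cons vpz2 (AllP.cons vpz3 (AllP.cons vpz2 (AllP.cons vpz4 (AllP.cons vpz2 (AllP.cons vpz3 (AllP.cons vpz2 (AllP.cons vpz3 (AllP.cons vpz2 (AllP.cons vpz3 (AllP.cons vpz2 (AllP.cons vpz3 (AllP.cons vpz2 (AllP.cons vpz3 (AllP.cons vpz2 (AllP.cons vpz4 (AllP.cons vpz2 (AllP.cons vpz4 (AllP.cons vpz2 (AllP.cons vpz4 (AllP.cons vpz2 (AllP.cons vpz3 (AllP.cons vpz2 (AllP.cons vpz4 (AllP.cons vpz2 (AllP.cons vpz3 (AllP.cons vpz2 (AllP.cons vpz3 (AllP.cons vpz2 (AllP.cons vpz4 (AllP.cons vpz2 (AllP.cons vpz3 (AllP.cons vpz1 (AllP.cons vpz4 (AllP.cons vpz1 (AllP.cons vpz3 (AllP.cons vpz1 (AllP.cons vpz4 (AllP.cons vpz1 (AllP.cons vpz4 (AllP.cons vpz1 (AllP.cons vpz3 (AllP.cons vpz1 (AllP.cons vpz3 (AllP.cons vpz1 (AllP.cons vpz6 (AllP.cons vpz2 (AllP.cons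 vpz4 (AllP.cons vpz2 (AllP.cons vpz4 (AllP.cons vpz2 (AllP.cons vpz3 (AllP.cons vpz2 (AllP.cons vpz3 (AllP.cons vpz2 (AllP.cons vpz4 (AllP.cons vpz2 (AllP.cons vpz3 (AllP.cons vpz2 (AllP.cons vpz4 (AllP.nil)))))))))))))))))))))))))))))))))))))))))))))))))))))))))))))))))))))))))))))))))))) (hU.one rel14) (by decide +kernel)
theorem vpz30 : PZ U (atm 3 fP) EXU 30 := PZ.of_inv hiv vpz29 (by decide +kernel)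
theorem vpz31 : PZ U (atm 3 fP) EXU 31 := PZ.of_def hiv (d := [2, 4, 2, 3, 2, 3, 2, 4, 2, 4, 2, 4, 2, 4, 2, 3, 2, 4, 2, 4, 2, 3, 2, 3, 2, 4, 2, 4, 2, 4, 2, 4, 2, 3, 2, 4, 2, 3, 2, 4, 2, 3, 2, 4, 4, 1, 3, 1, 4, 1, 3, 1, 4, 1, 3, 1, 3, 1, 4, 1, 4, 1, 6, 2, 3, 2, 3, 2, 4, 2, 4, 2, 3, 2, 4, 2, 3, 2, 4, 2, 3, 2, 4]) (AllP.cons vpz2 (AllP.cons vpz4 (AllP.cons vpz2 (AllP.cons vpz3 (AllP.cons vpz2 (AllP.cons vpz3 (AllP.cons vpz2 (AllP.cons vpz4 (AllP.cons vpz2 (AllP.cons vpz4 (AllP.cons vpz2 (AllP.cons vpz4 (AllP.cons vpz2 (AllP.cons vpz4 (AllP.cons vpz2 (AllP.cons vpz3 (AllP.cons vpz2 (AllP.cons vpz4 (AllP.cons vpz2 (AllP.cons vpz4 (AllP.cons vpz2 (AllP.cons vpz3 (AllP.cons vpz2 (AllP.cons vpz3 (AllP.cons vpz2 (AllP.cons vpz4 (AllP.cons vpz2 (AllP.cons vpz4 (AllP.cons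 vpz2 (AllP.cons vpz4 (AllP.cons vpz2 (AllP.cons vpz4 (AllP.cons vpz2 (AllP.cons vpz3 (AllP.cons vpz2 (AllP.cons vpz4 (AllP.cons vpz2 (AllP.cons vpz3 (AllP.cons vpz2 (AllP.cons vpz4 (AllP.cons vpz2 (AllP.cons vpz3 (AllP.cons vpz2 (AllP.cons vpz4 (AllP.cons vpz4 (AllP.cons vpz1 (AllP.cons vpz3 (AllP.cons vpz1 (AllP.cons vpz4 (AllP.cons vpz1 (AllP.cons vpz3 (AllP.cons vpz1 (AllP.cons vpz4 (AllP.cons vpz1 (AllP.cons vpz3 (AllP.cons vpz1 (AllP.cons vpz3 (AllP.cons vpz1 (AllP.cons vpz4 (AllP.cons vpz1 (AllP.cons vpz4 (AllP.cons vpz1 (AllP.cons vpz6 (AllP.cons vpz2 (AllP.cons vpz3 (AllP.cons vpz2 (AllP.cons vpz3 (AllP.cons vpz2 (AllP.cons vpz4 (AllP.cons vpz2 (AllP.cons vpz4 (AllP.cons vpz2 (AllP.cons vpz3 (AllP.cons vpz2 (AllP.cons vpz4 (AllP.cons vpz2 (AllP.cons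 vpz3 (AllP.cons vpz2 (AllP.cons vpz4 (AllP.cons vpz2 (AllP.cons vpz3 (AllP.cons vpz2 (AllP.cons vpz4 (AllP.nil)))))))))))))))))))))))))))))))))))))))))))))))))))))))))))))))))))))))))))))))))))) (hU.one rel15) (by decide +kernel)
theorem vpz32 : PZ U (atm 3 fP) EXU 32 := PZ.of_inv hiv vpz31 (by decide +kernel)
theorem vpz33 : PZ U (atm 3 fP) EXU 33 := PZ.of_def hiv (d := [3, 2, 3, 2, 3, 2, 4, 2, 4, 2, 3, 2, 3, 2, 4, 2, 4, 2, 4, 2, 4, 2, 4, 2, 4, 2, 4, 2, 4, 2, 4, 2, 3, 2, 4, 2, 3, 2, 3, 2, 3, 2, 3, 2, 3, 2, 4, 4, 1, 4, 1, 6, 2, 3, 2, 3, 1, 4, 1, 3, 1, 6, 2, 4, 2, 3, 2]) (AllP.cons vpz3 (AllP.cons vpz2 (AllP.cons vpz3 (AllP.cons vpz2 (AllP.cons vpz3 (AllP.cons vpz2 (AllP.cons vpz4 (AllP.cons vpz2 (AllP.cons vpz4 (AllP.cons vpz2 (AllP.cons vpz3 (AllP.cons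 vpz2 (AllP.cons vpz3 (AllP.cons vpz2 (AllP.cons vpz4 (AllP.cons vpz2 (AllP.cons vpz4 (AllP.cons vpz2 (AllP.cons vpz4 (AllP.cons vpz2 (AllP.cons vpz4 (AllP.cons vpz2 (AllP.cons vpz4 (AllP.cons vpz2 (AllP.cons vpz4 (AllP.cons vpz2 (AllP.cons vpz4 (AllP.cons vpz2 (AllP.cons vpz4 (AllP.cons vpz2 (AllP.cons vpz4 (AllP.cons vpz2 (AllP.cons vpz3 (AllP.cons vpz2 (AllP.cons vpz4 (AllP.cons vpz2 (AllP.cons vpz3 (AllP.cons vpz2 (AllP.cons vpz3 (AllP.cons vpz2 (AllP.cons vpz3 (AllP.cons vpz2 (AllP.cons vpz3 (AllP.cons vpz2 (AllP.cons vpz3 (AllP.cons vpz2 (AllP.cons vpz4 (AllP.cons vpz4 (AllP.cons vpz1 (AllP.cons vpz4 (AllP.cons vpz1 (AllP.cons vpz6 (AllP.cons vpz2 (AllP.cons vpz3 (AllP.cons vpz2 (AllP.cons vpz3 (AllP.cons vpz1 (AllP.cons vpz4 (AllP.cons vpz1 (AllP.cons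 vpz3 (AllP.cons vpz1 (AllP.cons vpz6 (AllP.cons vpz2 (AllP.cons vpz4 (AllP.cons vpz2 (AllP.cons vpz3 (AllP.cons vpz2 (AllP.nil)))))))))))))))))))))))))))))))))))))))))))))))))))))))))))))))))))) (hU.one rel16) (by decide +kernel)
theorem vpz34 : PZ U (atm 3 fP) EXU 34 := PZ.of_inv hiv vpz33 (by decide +kernel)
theorem hPZU : AllP (PZ U (atm 3 fP) EXU) LU :=
  show AllP (PZ U (atm 3 fP) EXU) [1, 2, 3, 4, 5, 6, 7, 8, 9, 10, 11, 12, 13, 14, 15, 16, 17, 18, 19, 20, 21, 22, 23, 24, 25, 26, 27, 28, 29, 30, 31, 32, 33, 34] from AllP.cons vpz1 (AllP.cons vpz2 (AllP.cons vpz3 (AllP.cons vpz4 (AllP.cons vpz5 (AllP.cons vpz6 (AllP.cons vpz7 (AllP.cons vpz8 (AllP.cons vpz9 (AllP.cons vpz10 (AllP.cons vpz11 (AllP.cons vpz12 (AllP.cons vpz13 (AllP.cons vpz14 (AllP.cons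 vpz15 (AllP.cons vpz16 (AllP.cons vpz17 (AllP.cons vpz18 (AllP.cons vpz19 (AllP.cons vpz20 (AllP.cons vpz21 (AllP.cons vpz22 (AllP.cons vpz23 (AllP.cons vpz24 (AllP.cons vpz25 (AllP.cons vpz26 (AllP.cons vpz27 (AllP.cons vpz28 (AllP.cons vpz29 (AllP.cons vpz30 (AllP.cons vpz31 (AllP.cons vpz32 (AllP.cons vpz33 (AllP.cons vpz34 (AllP.nil))))))))))))))))))))))))))))))))))
theorem eL : wsub 3 fP [[2, 0, 3, 0, 2, 0, 3, 0, 2, 0, 3, 0, 2, 0, 3, 0, 3, 0, 3, 0, 3, 0, 3, 0, 3, 0, 3, 0, 2, 0, 2, 0, 2, 0, 3, 0, 2, 0, 3, 0, 2, 0, 3, 0, 2, 1, 3, 1, 3, 1, 3, 1, 3, 1, 2, 1, 3, 1, 2, 1, 4, 0, 3, 0, 2, 0, 3, 0, 2, 0, 2, 0, 2, 0, 2, 0], [0, 3, 0, 3, 0, 2, 0, 3, 0, 2, 0, 3, 0, 2, 0, 3, 0, 3, 0, 2, 0, 2, 0, 2, 0, 3, 0, 2, 0, 3, 0, 2, 0, 2, 0, 2, 0, 3, 0, 2, 0, 3, 0, 2, 1,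 3, 1, 3, 1, 3, 1, 2, 1, 3, 1, 3, 1, 3, 1, 3, 1, 4, 0, 2, 0, 2, 0, 2, 0, 2, 0, 3, 0, 2, 0, 2, 0, 2, 0]] = U.lsub W17 :=
  lsub_eq_of_all₂ (show List.Forall₂ _ [[2, 0, 3, 0, 2, 0, 3, 0, 2, 0, 3, 0, 2, 0, 3, 0, 3, 0, 3, 0, 3, 0, 3, 0, 3, 0, 3, 0, 2, 0, 2, 0, 2, 0, 3, 0, 2, 0, 3, 0, 2, 0, 3, 0, 2, 1, 3, 1, 3, 1, 3, 1, 3, 1, 2, 1, 3, 1, 2, 1, 4, 0, 3, 0, 2, 0, 3, 0, 2, 0, 2, 0, 2, 0, 2, 0], [0, 3, 0, 3, 0, 2, 0, 3, 0, 2, 0, 3, 0, 2, 0, 3, 0, 3, 0, 2, 0, 2, 0, 2, 0, 3, 0, 2, 0, 3, 0, 2, 0, 2, 0, 2, 0, 3, 0, 2, 0, 3, 0, 2, 1, 3, 1, 3, 1, 3, 1, 2, 1, 3, 1, 3, 1, 3, 1, 3, 1, 4, 0, 2, 0, 2, 0, 2, 0, 2, 0, 3, 0, 2, 0, 2, 0, 2, 0]] [[7], [9]] from List.Forall₂.cons ((show ev (atm 3 fP) [2, 0, 3, 0, 2, 0, 3, 0, 2, 0, 3, 0, 2, 0, 3, 0, 3, 0, 3, 0, 3, 0, 3, 0, 3, 0, 3,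 0, 2, 0, 2, 0, 2, 0, 3, 0, 2, 0, 3, 0, 2, 0, 3, 0, 2, 1, 3, 1, 3, 1, 3, 1, 3, 1, 2, 1, 3, 1, 2, 1, 4, 0, 3, 0, 2, 0, 3, 0, 2, 0, 2, 0, 2, 0, 2, 0] = U.τ 7 from vpz7).trans (one_mul _).symm) (List.Forall₂.cons ((show ev (atm 3 fP) [0, 3, 0, 3, 0, 2, 0, 3, 0, 2, 0, 3, 0, 2, 0, 3, 0, 3, 0, 2, 0, 2, 0, 2, 0, 3, 0, 2, 0, 3, 0, 2, 0, 2, 0, 2, 0, 3, 0, 2, 0, 3, 0, 2, 1, 3, 1, 3, 1, 3, 1, 2, 1, 3, 1, 3, 1, 3, 1, 3, 1, 4, 0, 2, 0, 2, 0, 2, 0, 2, 0, 3, 0, 2, 0, 2, 0, 2, 0] = U.τ 9 from vpz9).trans (one_mul _).symm) (List.Forall₂.nil)))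
theorem reach22 : Reach (U.lsub W17) 1 M20 := (Reach.grow hU (Reach.base _ 1) gr21)
theorem orb25 : (orbS (U.lsub W17) 1).ncard = 1536 := reach22.ncard hU cl23 sz24
theorem orb25e : orbS (U.lsub W17) 1 = {c | Nat.testBit M20 c = true} := reach22.orb hU cl23
theorem reach32 : Reach (U.lsub W26) 18 M30 := (Reach.grow hU (Reach.base _ 18) gr31)
theorem orb35 : (orbS (U.lsub W26) 18).ncard = 896 := reach32.ncard hU cl33 sz34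
theorem orb35e : orbS (U.lsub W26) 18 = {c | Nat.testBit M30 c = true} := reach32.orb hU cl33
theorem reach40 : Reach (U.lsub W36) 5 M38 := (Reach.grow hU (Reach.base _ 5) gr39)
theorem orb43 : (orbS (U.lsub W36) 5).ncard = 24 := reach40.ncard hU cl41 sz42
theorem orb43e : orbS (U.lsub W36) 5 = {c | Nat.testBit M38 c = true} := reach40.orb hU cl41
theorem lbL44 : 24 ∣ Nat.card (U.lsub W36) := dvd_card_orb orb43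
theorem lbL45 : 21504 ∣ Nat.card (U.lsub W26) :=
  dvd_card_step (s := 896) (M := 24) (B := U.lsub W36) (Tab.lsub_le_all (AllP.cons (mem_of_rel (hU.one rel28) (U.mem_letters (by decide))) (AllP.cons (mem_of_rel (hU.one rel29) (U.mem_letters (by decide))) (AllP.nil)))) (hU.fixes fx37) orb35 lbL44
theorem lbL : 33030144 ∣ Nat.card (U.lsub W17) :=
  dvd_card_step (s := 1536) (M := 21504) (B := U.lsub W26) (Tab.lsub_le_all (AllP.cons (mem_of_rel (hU.one rel18) (U.mem_letters (by decide))) (AllP.cons (mem_of_rel (hU.one rel19) (U.mem_letters (by decide))) (AllP.nil)))) (hU.fixes fx27) orb25 lbL45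
theorem cardL : 33030144 ∣ Nat.card (wsub 3 p [[2, 0, 3, 0, 2, 0, 3, 0, 2, 0, 3, 0, 2, 0, 3, 0, 3, 0, 3, 0, 3, 0, 3, 0, 3, 0, 3, 0, 2, 0, 2, 0, 2, 0, 3, 0, 2, 0, 3, 0, 2, 0, 3, 0, 2, 1, 3, 1, 3, 1, 3, 1, 3, 1, 2, 1, 3, 1, 2, 1, 4, 0, 3, 0, 2, 0, 3, 0, 2, 0, 2, 0, 2, 0, 2, 0], [0, 3, 0, 3, 0, 2, 0, 3, 0, 2, 0, 3, 0, 2, 0, 3, 0, 3, 0, 2, 0, 2, 0, 2, 0, 3, 0, 2, 0, 3, 0, 2, 0, 2, 0, 2, 0, 3, 0, 2, 0, 3, 0, 2, 1, 3, 1, 3, 1, 3, 1, 2, 1, 3, 1, 3, 1, 3, 1, 3, 1, 4, 0, 2, 0, 2, 0, 2, 0, 2, 0, 3, 0, 2, 0, 2, 0, 2, 0]]) := by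
  rw [card_wsub_lift, eL]; exact lbL
theorem eS1 : wsub 3 fP [[3, 0, 2, 0, 3, 0, 2, 0, 2, 0, 2, 0, 3, 0, 2, 0, 2, 0, 2, 0, 2, 0, 2, 0, 3, 0, 3, 0, 3, 0, 3, 0, 2, 0, 2, 0, 2, 0, 3, 0, 3, 0, 2, 0, 2, 0, 2, 0, 3, 0, 2, 0, 2, 1, 2, 1, 3, 1, 3, 1, 3, 1, 3, 1, 2, 1, 4, 0, 3, 0, 2, 0, 2, 0, 2, 0, 2, 0, 3, 0], [3, 0, 2, 0, 3, 0, 2, 0, 3, 0, 3, 0, 3, 0, 2, 0, 3, 0, 2, 0, 3, 0, 3, 0, 3, 0, 2, 0, 2, 0, 3, 0, 2, 0, 3, 0, 2, 0, 3, 3, 1, 2, 1, 3, 1, 3, 1, 3, 1, 3, 1, 4, 0, 2, 0, 2, 0, 2, 0, 2, 0, 3, 0, 2, 0, 2, 0, 2, 0]] = U.lsub W46 :=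
  lsub_eq_of_all₂ (show List.Forall₂ _ [[3, 0, 2, 0, 3, 0, 2, 0, 2, 0, 2, 0, 3, 0, 2, 0, 2, 0, 2, 0, 2, 0, 2, 0, 3, 0, 3, 0, 3, 0, 3, 0, 2, 0, 2, 0, 2, 0, 3, 0, 3, 0, 2, 0, 2, 0, 2, 0, 3, 0, 2, 0, 2, 1, 2, 1, 3, 1, 3, 1, 3, 1, 3, 1, 2, 1, 4, 0, 3, 0, 2, 0, 2, 0, 2, 0, 2, 0, 3, 0], [3, 0, 2, 0, 3, 0, 2, 0, 3, 0, 3, 0, 3, 0, 2, 0, 3, 0, 2, 0, 3, 0, 3, 0, 3, 0, 2, 0, 2, 0, 3, 0, 2, 0, 3, 0, 2, 0, 3, 3, 1, 2, 1, 3, 1, 3, 1, 3, 1, 3, 1, 4, 0, 2, 0, 2, 0, 2, 0, 2, 0, 3, 0, 2, 0, 2, 0, 2, 0]] [[11], [13]] from List.Forall₂.cons ((show ev (atm 3 fP) [3, 0, 2, 0, 3, 0, 2, 0, 2, 0, 2, 0, 3, 0, 2, 0, 2, 0, 2, 0, 2, 0, 2, 0, 3, 0, 3, 0, 3, 0, 3, 0, 2, 0, 2, 0, 2, 0, 3, 0, 3, 0, 2, 0, 2, 0, 2, 0, 3, 0, 2, 0, 2, 1, 2, 1, 3, 1, 3, 1, 3, 1, 3, 1, 2, 1, 4, 0, 3, 0, 2, 0,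 2, 0, 2, 0, 2, 0, 3, 0] = U.τ 11 from vpz11).trans (one_mul _).symm) (List.Forall₂.cons ((show ev (atm 3 fP) [3, 0, 2, 0, 3, 0, 2, 0, 3, 0, 3, 0, 3, 0, 2, 0, 3, 0, 2, 0, 3, 0, 3, 0, 3, 0, 2, 0, 2, 0, 3, 0, 2, 0, 3, 0, 2, 0, 3, 3, 1, 2, 1, 3, 1, 3, 1, 3, 1, 3, 1, 4, 0, 2, 0, 2, 0, 2, 0, 2, 0, 3, 0, 2, 0, 2, 0, 2, 0] = U.τ 13 from vpz13).trans (one_mul _).symm) (List.Forall₂.nil)))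
theorem reach51 : Reach (U.lsub W46) 1 M49 := (Reach.grow hU (Reach.base _ 1) gr50)
theorem orb54 : (orbS (U.lsub W46) 1).ncard = 1536 := reach51.ncard hU cl52 sz53
theorem orb54e : orbS (U.lsub W46) 1 = {c | Nat.testBit M49 c = true} := reach51.orb hU cl52
theorem reach61 : Reach (U.lsub W55) 18 M59 := (Reach.grow hU (Reach.base _ 18) gr60)
theorem orb64 : (orbS (U.lsub W55) 18).ncard = 896 := reach61.ncard hU cl62 sz63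
theorem orb64e : orbS (U.lsub W55) 18 = {c | Nat.testBit M59 c = true} := reach61.orb hU cl62
theorem reach69 : Reach (U.lsub W65) 5 M67 := (Reach.grow hU (Reach.base _ 5) gr68)
theorem orb72 : (orbS (U.lsub W65) 5).ncard = 24 := reach69.ncard hU cl70 sz71
theorem orb72e : orbS (U.lsub W65) 5 = {c | Nat.testBit M67 c = true} := reach69.orb hU cl70
theorem lbS173 : 24 ∣ Nat.card (U.lsub W65) := dvd_card_orb orb72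
theorem lbS174 : 21504 ∣ Nat.card (U.lsub W55) :=
  dvd_card_step (s := 896) (M := 24) (B := U.lsub W65) (Tab.lsub_le_all (AllP.cons (mem_of_rel (hU.one rel57) (U.mem_letters (by decide))) (AllP.cons (mem_of_rel (hU.one rel58) (U.mem_letters (by decide))) (AllP.nil)))) (hU.fixes fx66) orb64 lbS173
theorem lbS1 : 33030144 ∣ Nat.card (U.lsub W46) :=
  dvd_card_step (s := 1536) (M := 21504) (B := U.lsub W55) (Tab.lsub_le_all (AllP.cons (mem_of_rel (hU.one rel47) (U.mem_letters (by decide))) (AllP.cons (mem_of_rel (hU.one rel48) (U.mem_letters (by decide))) (AllP.nil)))) (hU.fixes fx56) orb54 lbS174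
theorem cardS1 : 33030144 ∣ Nat.card (wsub 3 p [[3, 0, 2, 0, 3, 0, 2, 0, 2, 0, 2, 0, 3, 0, 2, 0, 2, 0, 2, 0, 2, 0, 2, 0, 3, 0, 3, 0, 3, 0, 3, 0, 2, 0, 2, 0, 2, 0, 3, 0, 3, 0, 2, 0, 2, 0, 2, 0, 3, 0, 2, 0, 2, 1, 2, 1, 3, 1, 3, 1, 3, 1, 3, 1, 2, 1, 4, 0, 3, 0, 2, 0, 2, 0, 2, 0, 2, 0, 3, 0], [3, 0, 2, 0, 3, 0, 2, 0, 3, 0, 3, 0, 3, 0, 2, 0, 3, 0, 2, 0, 3, 0, 3, 0, 3, 0, 2, 0, 2, 0, 3, 0, 2, 0, 3, 0, 2, 0, 3, 3, 1, 2, 1, 3, 1, 3, 1, 3, 1, 3, 1, 4, 0, 2, 0, 2, 0, 2, 0, 2, 0, 3, 0, 2, 0, 2, 0, 2, 0]]) := by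
  rw [card_wsub_lift, eS1]; exact lbS1
theorem eS4 : wsub 3 fP [[0, 2, 0, 2, 0, 2, 0, 2, 0, 2, 0, 3, 0, 2, 0, 2, 0, 2, 0, 3, 0, 3, 0, 3, 0, 3, 0, 3, 0, 3, 0, 3, 0, 3, 0, 3, 0, 2, 0, 3, 0, 3, 0, 3, 0, 3, 0, 2, 0, 3, 0, 2, 2, 1, 3, 1, 3, 1, 2, 1, 2, 1, 2, 1, 2, 1, 3, 1, 2, 1, 4, 0, 3, 0, 2, 0, 3, 0, 3, 0, 3, 0, 3, 0, 2, 0, 2, 0, 3, 0, 2], [2, 0, 2, 0, 3, 0, 3, 0, 3, 0, 3, 0, 3, 0, 3, 0, 3, 0, 2, 0, 2, 0, 2, 0, 3, 0, 2, 0, 3, 0, 2, 0, 3, 0, 3, 0, 3, 0, 2, 0, 3, 0, 3, 0, 3, 0, 3, 0, 3, 0, 3, 0, 3, 3, 1, 3, 1, 3, 1, 2, 1, 2, 1, 2, 1, 3, 1, 2, 1, 2, 1, 2, 1, 4, 0, 3, 0, 3, 0, 3, 0, 2, 0, 3, 0, 3, 0, 3, 0, 2, 0, 2, 0, 2]] = U.lsub W75 :=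
  lsub_eq_of_all₂ (show List.Forall₂ _ [[0, 2, 0, 2, 0, 2, 0, 2, 0, 2, 0, 3, 0, 2, 0, 2, 0, 2, 0, 3, 0, 3, 0, 3, 0, 3, 0, 3, 0, 3, 0, 3, 0, 3, 0, 3, 0, 2, 0, 3, 0, 3, 0, 3, 0, 3, 0, 2, 0, 3, 0, 2, 2, 1, 3, 1, 3, 1, 2, 1, 2, 1, 2, 1, 2, 1, 3, 1, 2, 1, 4, 0, 3, 0, 2, 0, 3, 0, 3, 0, 3, 0, 3, 0, 2, 0, 2, 0, 3, 0, 2], [2, 0, 2, 0, 3, 0, 3, 0, 3, 0, 3, 0, 3, 0, 3, 0, 3, 0, 2, 0, 2, 0, 2, 0, 3, 0, 2, 0, 3, 0, 2, 0, 3, 0, 3, 0, 3, 0, 2, 0, 3, 0, 3, 0, 3, 0, 3, 0, 3, 0, 3, 0, 3, 3, 1, 3, 1, 3, 1, 2, 1, 2, 1, 2, 1, 3, 1, 2, 1, 2, 1, 2, 1, 4, 0, 3, 0, 3, 0, 3, 0, 2, 0, 3, 0, 3, 0, 3, 0, 2, 0, 2, 0, 2]] [[15], [17]] from List.Forall₂.cons ((show ev (atm 3 fP) [0, 2, 0, 2, 0, 2, 0, 2, 0, 2, 0, 3, 0, 2, 0, 2, 0, 2, 0, 3, 0, 3, 0, 3, 0, 3, 0, 3, 0, 3, 0, 3, 0, 3, 0, 3,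 0, 2, 0, 3, 0, 3, 0, 3, 0, 3, 0, 2, 0, 3, 0, 2, 2, 1, 3, 1, 3, 1, 2, 1, 2, 1, 2, 1, 2, 1, 3, 1, 2, 1, 4, 0, 3, 0, 2, 0, 3, 0, 3, 0, 3, 0, 3, 0, 2, 0, 2, 0, 3, 0, 2] = U.τ 15 from vpz15).trans (one_mul _).symm) (List.Forall₂.cons ((show ev (atm 3 fP) [2, 0, 2, 0, 3, 0, 3, 0, 3, 0, 3, 0, 3, 0, 3, 0, 3, 0, 2, 0, 2, 0, 2, 0, 3, 0, 2, 0, 3, 0, 2, 0, 3, 0, 3, 0, 3, 0, 2, 0, 3, 0, 3, 0, 3, 0, 3, 0, 3, 0, 3, 0, 3, 3, 1, 3, 1, 3, 1, 2, 1, 2, 1, 2, 1, 3, 1, 2, 1, 2, 1, 2, 1, 4, 0, 3, 0, 3, 0, 3, 0, 2, 0, 3, 0, 3, 0, 3, 0, 2, 0, 2, 0, 2] = U.τ 17 from vpz17).trans (one_mul _).symm) (List.Forall₂.nil)))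
theorem reach80 : Reach (U.lsub W75) 0 M78 := (Reach.grow hU (Reach.base _ 0) gr79)
theorem orb83 : (orbS (U.lsub W75) 0).ncard = 1920 := reach80.ncard hU cl81 sz82
theorem orb83e : orbS (U.lsub W75) 0 = {c | Nat.testBit M78 c = true} := reach80.orb hU cl81
theorem reach90 : Reach (U.lsub W84) 11 M88 := (Reach.grow hU (Reach.base _ 11) gr89)
theorem orb93 : (orbS (U.lsub W84) 11).ncard = 768 := reach90.ncard hU cl91 sz92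
theorem orb93e : orbS (U.lsub W84) 11 = {c | Nat.testBit M88 c = true} := reach90.orb hU cl91
theorem reach98 : Reach (U.lsub W94) 5 M96 := (Reach.grow hU (Reach.base _ 5) gr97)
theorem orb101 : (orbS (U.lsub W94) 5).ncard = 12 := reach98.ncard hU cl99 sz100
theorem orb101e : orbS (U.lsub W94) 5 = {c | Nat.testBit M96 c = true} := reach98.orb hU cl99
theorem lbS4102 : 12 ∣ Nat.card (U.lsub W94) := dvd_card_orb orb101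
theorem lbS4103 : 9216 ∣ Nat.card (U.lsub W84) :=
  dvd_card_step (s := 768) (M := 12) (B := U.lsub W94) (Tab.lsub_le_all (AllP.cons (mem_of_rel (hU.one rel86) (U.mem_letters (by decide))) (AllP.cons (mem_of_rel (hU.one rel87) (U.mem_letters (by decide))) (AllP.nil)))) (hU.fixes fx95) orb93 lbS4102
theorem lbS4 : 17694720 ∣ Nat.card (U.lsub W75) :=
  dvd_card_step (s := 1920) (M := 9216) (B := U.lsub W84) (Tab.lsub_le_all (AllP.cons (mem_of_rel (hU.one rel76) (U.mem_letters (by decide))) (AllP.cons (mem_of_rel (hU.one rel77) (U.mem_letters (by decide))) (AllP.nil)))) (hU.fixes fx85) orb83 lbS4103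
theorem cardS4 : 17694720 ∣ Nat.card (wsub 3 p [[0, 2, 0, 2, 0, 2, 0, 2, 0, 2, 0, 3, 0, 2, 0, 2, 0, 2, 0, 3, 0, 3, 0, 3, 0, 3, 0, 3, 0, 3, 0, 3, 0, 3, 0, 3, 0, 2, 0, 3, 0, 3, 0, 3, 0, 3, 0, 2, 0, 3, 0, 2, 2, 1, 3, 1, 3, 1, 2, 1, 2, 1, 2, 1, 2, 1, 3, 1, 2, 1, 4, 0, 3, 0, 2, 0, 3, 0, 3, 0, 3, 0, 3, 0, 2, 0, 2, 0, 3, 0, 2], [2, 0, 2, 0, 3, 0, 3, 0, 3, 0, 3, 0, 3, 0, 3, 0, 3, 0, 2, 0, 2, 0, 2, 0, 3, 0, 2, 0, 3, 0, 2, 0, 3, 0, 3, 0, 3, 0, 2, 0, 3, 0, 3, 0, 3, 0, 3, 0, 3, 0, 3, 0, 3, 3, 1, 3, 1, 3, 1, 2, 1, 2, 1, 2, 1, 3, 1, 2, 1, 2, 1, 2, 1, 4, 0, 3, 0, 3, 0, 3, 0, 2, 0, 3, 0, 3, 0, 3, 0, 2, 0, 2, 0, 2]]) := by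
  rw [card_wsub_lift, eS4]; exact lbS4
theorem eS6 : wsub 3 fP [[0, 3, 0, 2, 0, 2, 0, 3, 0, 2, 0, 3, 0, 3, 0, 3, 0, 2, 0, 2, 0, 3, 0, 3, 0, 2, 0, 3, 0, 2, 0, 3, 0, 2, 0, 3, 0, 3, 0, 3, 0, 2, 0, 3, 0, 3, 0, 3, 0, 3, 0, 2, 0, 3, 0, 2, 2, 1, 2, 1, 2, 1, 2, 1, 3, 1, 2, 1, 3, 1, 2, 1, 3, 1, 2, 1, 3, 1, 4, 0, 2, 0, 3, 0, 2, 0, 3, 0, 2, 0, 3, 0, 2, 0, 3, 0, 3, 0, 3, 0, 3], [0, 2, 0, 3, 0, 2, 0, 3, 0, 2, 0, 2, 0, 2, 0, 3, 0, 2, 0, 2, 0, 2, 0, 2, 0, 2, 0, 2, 0, 3, 0, 3, 0, 2, 0, 2, 0, 3, 0, 3, 0, 3, 0, 3, 0, 3, 0, 2, 0, 3, 3, 1, 2, 1, 3, 1, 2, 1, 2, 1, 3, 1, 3, 1, 3, 1, 3, 1, 2, 1, 2, 1, 4, 0, 3, 0, 3, 0, 2, 0, 2, 0, 2, 0, 2, 0, 3, 0, 3, 0, 2, 0, 3, 0, 2]] = U.lsub W104 :=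
  lsub_eq_of_all₂ (show List.Forall₂ _ [[0, 3, 0, 2, 0, 2, 0, 3, 0, 2, 0, 3, 0, 3, 0, 3, 0, 2, 0, 2, 0, 3, 0, 3, 0, 2, 0, 3, 0, 2, 0, 3, 0, 2, 0, 3, 0, 3, 0, 3, 0, 2, 0, 3, 0, 3, 0, 3, 0, 3, 0, 2, 0, 3, 0, 2, 2, 1, 2, 1, 2, 1, 2, 1, 3, 1, 2, 1, 3, 1, 2, 1, 3, 1, 2, 1, 3, 1, 4, 0, 2, 0, 3, 0, 2, 0, 3, 0, 2, 0, 3, 0, 2, 0, 3, 0, 3, 0, 3, 0, 3], [0, 2, 0, 3, 0, 2, 0, 3, 0, 2, 0, 2, 0, 2, 0, 3, 0, 2, 0, 2, 0, 2, 0, 2, 0, 2, 0, 2, 0, 3, 0, 3, 0, 2, 0, 2, 0, 3, 0, 3, 0, 3, 0, 3, 0, 3, 0, 2, 0, 3, 3, 1, 2, 1, 3, 1, 2, 1, 2, 1, 3, 1, 3, 1, 3, 1, 3, 1, 2, 1, 2, 1, 4, 0, 3, 0, 3, 0, 2, 0, 2, 0, 2, 0, 2, 0, 3, 0, 3, 0, 2, 0, 3, 0, 2]] [[19], [21]] from List.Forall₂.cons ((show ev (atm 3 fP) [0, 3, 0, 2, 0, 2, 0, 3, 0, 2, 0, 3, 0, 3, 0, 3, 0, 2, 0, 2, 0, 3, 0, 3, 0,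 2, 0, 3, 0, 2, 0, 3, 0, 2, 0, 3, 0, 3, 0, 3, 0, 2, 0, 3, 0, 3, 0, 3, 0, 3, 0, 2, 0, 3, 0, 2, 2, 1, 2, 1, 2, 1, 2, 1, 3, 1, 2, 1, 3, 1, 2, 1, 3, 1, 2, 1, 3, 1, 4, 0, 2, 0, 3, 0, 2, 0, 3, 0, 2, 0, 3, 0, 2, 0, 3, 0, 3, 0, 3, 0, 3] = U.τ 19 from vpz19).trans (one_mul _).symm) (List.Forall₂.cons ((show ev (atm 3 fP) [0, 2, 0, 3, 0, 2, 0, 3, 0, 2, 0, 2, 0, 2, 0, 3, 0, 2, 0, 2, 0, 2, 0, 2, 0, 2, 0, 2, 0, 3, 0, 3, 0, 2, 0, 2, 0, 3, 0, 3, 0, 3, 0, 3, 0, 3, 0, 2, 0, 3, 3, 1, 2, 1, 3, 1, 2, 1, 2, 1, 3, 1, 3, 1, 3, 1, 3, 1, 2, 1, 2, 1, 4, 0, 3, 0, 3, 0, 2, 0, 2, 0, 2, 0, 2, 0, 3, 0, 3, 0, 2, 0, 3, 0, 2] = U.τ 21 from vpz21).trans (one_mul _).symm) (List.Forall₂.nil)))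
theorem reach109 : Reach (U.lsub W104) 1 M107 := (Reach.grow hU (Reach.base _ 1) gr108)
theorem orb112 : (orbS (U.lsub W104) 1).ncard = 1536 := reach109.ncard hU cl110 sz111
theorem orb112e : orbS (U.lsub W104) 1 = {c | Nat.testBit M107 c = true} := reach109.orb hU cl110
theorem reach117 : Reach (U.lsub W113) 6 M115 := (Reach.grow hU (Reach.base _ 6) gr116)
theorem orb120 : (orbS (U.lsub W113) 6).ncard = 96 := reach117.ncard hU cl118 sz119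
theorem orb120e : orbS (U.lsub W113) 6 = {c | Nat.testBit M115 c = true} := reach117.orb hU cl118
theorem lbS6121 : 96 ∣ Nat.card (U.lsub W113) := dvd_card_orb orb120
theorem lbS6 : 147456 ∣ Nat.card (U.lsub W104) :=
  dvd_card_step (s := 1536) (M := 96) (B := U.lsub W113) (Tab.lsub_le_all (AllP.cons (mem_of_rel (hU.one rel105) (U.mem_letters (by decide))) (AllP.cons (mem_of_rel (hU.one rel106) (U.mem_letters (by decide))) (AllP.nil)))) (hU.fixes fx114) orb112 lbS6121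
theorem cardS6 : 147456 ∣ Nat.card (wsub 3 p [[0, 3, 0, 2, 0, 2, 0, 3, 0, 2, 0, 3, 0, 3, 0, 3, 0, 2, 0, 2, 0, 3, 0, 3, 0, 2, 0, 3, 0, 2, 0, 3, 0, 2, 0, 3, 0, 3, 0, 3, 0, 2, 0, 3, 0, 3, 0, 3, 0, 3, 0, 2, 0, 3, 0, 2, 2, 1, 2, 1, 2, 1, 2, 1, 3, 1, 2, 1, 3, 1, 2, 1, 3, 1, 2, 1, 3, 1, 4, 0, 2, 0, 3, 0, 2, 0, 3, 0, 2, 0, 3, 0, 2, 0, 3, 0, 3, 0, 3, 0, 3], [0, 2, 0, 3, 0, 2, 0, 3, 0, 2, 0, 2, 0, 2, 0, 3, 0, 2, 0, 2, 0, 2, 0, 2, 0, 2, 0, 2, 0, 3, 0, 3, 0, 2, 0, 2, 0, 3, 0, 3, 0, 3, 0, 3, 0, 3, 0, 2, 0, 3, 3, 1, 2, 1, 3, 1, 2, 1, 2, 1, 3, 1, 3, 1, 3, 1, 3, 1, 2, 1, 2, 1, 4, 0, 3, 0, 3, 0, 2, 0, 2, 0, 2, 0, 2, 0, 3, 0, 3, 0, 2, 0, 3, 0, 2]]) := by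
  rw [card_wsub_lift, eS6]; exact lbS6
theorem eS7 : wsub 3 fP [[0, 2, 0, 3, 0, 3, 0, 2, 0, 2, 0, 3, 0, 3, 0, 3, 0, 3, 0, 2, 0, 3, 0, 3, 0, 3, 0, 2, 0, 3, 0, 3, 0, 3, 0, 3, 0, 2, 0, 3, 0, 3, 0, 3, 0, 3, 0, 3, 0, 2, 2, 1, 4, 2, 1, 2, 1, 2, 1, 4, 0, 3, 0, 3, 0, 3, 0, 3, 0, 3], [2, 0, 2, 0, 3, 0, 2, 0, 2, 0, 2, 0, 2, 0, 3, 0, 2, 0, 3, 0, 2, 0, 2, 0, 2, 0, 3, 0, 2, 0, 3, 0, 2, 0, 3, 0, 3, 0, 2, 0, 2, 0, 3, 0, 3, 0, 2, 0, 3, 3, 1, 3, 1, 3, 1, 3, 1, 3, 1, 2, 1, 2, 1, 4, 0, 3, 0, 3, 0, 2, 0, 2, 0, 2, 0, 2, 0, 2, 0]] = U.lsub W122 :=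
  lsub_eq_of_all₂ (show List.Forall₂ _ [[0, 2, 0, 3, 0, 3, 0, 2, 0, 2, 0, 3, 0, 3, 0, 3, 0, 3, 0, 2, 0, 3, 0, 3, 0, 3, 0, 2, 0, 3, 0, 3, 0, 3, 0, 3, 0, 2, 0, 3, 0, 3, 0, 3, 0, 3, 0, 3, 0, 2, 2, 1, 4, 2, 1, 2, 1, 2, 1, 4, 0, 3, 0, 3, 0, 3, 0, 3, 0, 3], [2, 0, 2, 0, 3, 0, 2, 0, 2, 0, 2, 0, 2, 0, 3, 0, 2, 0, 3, 0, 2, 0, 2, 0, 2, 0, 3, 0, 2, 0, 3, 0, 2, 0, 3, 0, 3, 0, 2, 0, 2, 0, 3, 0, 3, 0, 2, 0, 3, 3, 1, 3, 1, 3, 1, 3, 1, 3, 1, 2, 1, 2, 1, 4, 0, 3, 0, 3, 0, 2, 0, 2, 0, 2, 0, 2, 0, 2, 0]] [[23], [25]] from List.Forall₂.cons ((show ev (atm 3 fP) [0, 2, 0, 3, 0, 3, 0, 2, 0, 2, 0, 3, 0, 3, 0, 3, 0, 3, 0, 2, 0, 3, 0, 3, 0, 3, 0, 2, 0, 3, 0, 3, 0, 3, 0, 3, 0, 2, 0, 3, 0, 3, 0, 3, 0, 3, 0, 3, 0, 2, 2, 1, 4, 2, 1, 2, 1, 2, 1, 4, 0, 3, 0, 3, 0, 3, 0, 3, 0, 3] = U.τ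 23 from vpz23).trans (one_mul _).symm) (List.Forall₂.cons ((show ev (atm 3 fP) [2, 0, 2, 0, 3, 0, 2, 0, 2, 0, 2, 0, 2, 0, 3, 0, 2, 0, 3, 0, 2, 0, 2, 0, 2, 0, 3, 0, 2, 0, 3, 0, 2, 0, 3, 0, 3, 0, 2, 0, 2, 0, 3, 0, 3, 0, 2, 0, 3, 3, 1, 3, 1, 3, 1, 3, 1, 3, 1, 2, 1, 2, 1, 4, 0, 3, 0, 3, 0, 2, 0, 2, 0, 2, 0, 2, 0, 2, 0] = U.τ 25 from vpz25).trans (one_mul _).symm) (List.Forall₂.nil)))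
theorem reach128 : Reach (U.lsub W122) 2 M126 := (Reach.grow hU (Reach.base _ 2) gr127)
theorem orb131 : (orbS (U.lsub W122) 2).ncard = 960 := reach128.ncard hU cl129 sz130
theorem orb131e : orbS (U.lsub W122) 2 = {c | Nat.testBit M126 c = true} := reach128.orb hU cl129
theorem reach136 : Reach (U.lsub W132) 1 M134 := (Reach.grow hU (Reach.base _ 1) gr135)
theorem orb139 : (orbS (U.lsub W132) 1).ncard = 16 := reach136.ncard hU cl137 sz138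
theorem orb139e : orbS (U.lsub W132) 1 = {c | Nat.testBit M134 c = true} := reach136.orb hU cl137
theorem lbS7140 : 16 ∣ Nat.card (U.lsub W132) := dvd_card_orb orb139
theorem lbS7 : 15360 ∣ Nat.card (U.lsub W122) :=
  dvd_card_step (s := 960) (M := 16) (B := U.lsub W132) (Tab.lsub_le_all (AllP.cons (mem_of_rel (hU.one rel123) (U.mem_letters (by decide))) (AllP.cons (mem_of_rel (hU.one rel124) (U.mem_letters (by decide))) (AllP.cons (mem_of_rel (hU.one rel125) (U.mem_letters (by decide))) (AllP.nil))))) (hU.fixes fx133) orb131 lbS7140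
theorem cardS7 : 15360 ∣ Nat.card (wsub 3 p [[0, 2, 0, 3, 0, 3, 0, 2, 0, 2, 0, 3, 0, 3, 0, 3, 0, 3, 0, 2, 0, 3, 0, 3, 0, 3, 0, 2, 0, 3, 0, 3, 0, 3, 0, 3, 0, 2, 0, 3, 0, 3, 0, 3, 0, 3, 0, 3, 0, 2, 2, 1, 4, 2, 1, 2, 1, 2, 1, 4, 0, 3, 0, 3, 0, 3, 0, 3, 0, 3], [2, 0, 2, 0, 3, 0, 2, 0, 2, 0, 2, 0, 2, 0, 3, 0, 2, 0, 3, 0, 2, 0, 2, 0, 2, 0, 3, 0, 2, 0, 3, 0, 2, 0, 3, 0, 3, 0, 2, 0, 2, 0, 3, 0, 3, 0, 2, 0, 3, 3, 1, 3, 1, 3, 1, 3, 1, 3, 1, 2, 1, 2, 1, 4, 0, 3, 0, 3, 0, 2, 0, 2, 0, 2, 0, 2, 0, 2, 0]]) := by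
  rw [card_wsub_lift, eS7]; exact lbS7
theorem eS10 : wsub 3 fP [[0, 2, 0, 2, 0, 2, 0, 3, 0, 2, 0, 3, 0, 2, 0, 2, 0, 3, 0, 3, 0, 3, 0, 2, 0, 2, 0, 3, 0, 3, 0, 3, 0, 3, 0, 3, 0, 3, 0, 2, 0, 2, 0, 2, 0, 2, 1, 2, 1, 2, 1, 3, 1, 2, 1, 3, 1, 2, 1, 2, 1, 3, 1, 2, 1, 3, 1, 4, 0, 2, 0, 3, 0, 2, 0, 3, 0, 3, 0, 2, 0, 3, 0, 2, 0, 3, 0, 3, 0, 3], [3, 0, 2, 0, 3, 0, 2, 0, 3, 0, 2, 0, 3, 0, 3, 0, 3, 0, 3, 0, 3, 0, 2, 0, 3, 0, 2, 0, 3, 0, 3, 0, 3, 0, 3, 0, 3, 0, 2, 0, 2, 0, 2, 0, 3, 0, 2, 0, 3, 0, 3, 0, 2, 0, 3, 1, 2, 1, 3, 1, 2, 1, 2, 1, 3, 1, 3, 1, 4, 0, 2, 0, 2, 0, 3, 0, 3, 0, 2, 0, 3, 0, 2]] = U.lsub W141 :=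
  lsub_eq_of_all₂ (show List.Forall₂ _ [[0, 2, 0, 2, 0, 2, 0, 3, 0, 2, 0, 3, 0, 2, 0, 2, 0, 3, 0, 3, 0, 3, 0, 2, 0, 2, 0, 3, 0, 3, 0, 3, 0, 3, 0, 3, 0, 3, 0, 2, 0, 2, 0, 2, 0, 2, 1, 2, 1, 2, 1, 3, 1, 2, 1, 3, 1, 2, 1, 2, 1, 3, 1, 2, 1, 3, 1, 4, 0, 2, 0, 3, 0, 2, 0, 3, 0, 3, 0, 2, 0, 3, 0, 2, 0, 3, 0, 3, 0, 3], [3, 0, 2, 0, 3, 0, 2, 0, 3, 0, 2, 0, 3, 0, 3, 0, 3, 0, 3, 0, 3, 0, 2, 0, 3, 0, 2, 0, 3, 0, 3, 0, 3, 0, 3, 0, 3, 0, 2, 0, 2, 0, 2, 0, 3, 0, 2, 0, 3, 0, 3, 0, 2, 0, 3, 1, 2, 1, 3, 1, 2, 1, 2, 1, 3, 1, 3, 1, 4, 0, 2, 0, 2, 0, 3, 0, 3, 0, 2, 0, 3, 0, 2]] [[27], [29]] from List.Forall₂.cons ((show ev (atm 3 fP) [0, 2, 0, 2, 0, 2, 0, 3, 0, 2, 0, 3, 0, 2, 0, 2, 0, 3, 0, 3, 0, 3, 0, 2, 0, 2, 0, 3, 0, 3, 0, 3, 0, 3, 0, 3, 0, 3, 0, 2, 0, 2, 0, 2, 0, 2, 1, 2,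 1, 2, 1, 3, 1, 2, 1, 3, 1, 2, 1, 2, 1, 3, 1, 2, 1, 3, 1, 4, 0, 2, 0, 3, 0, 2, 0, 3, 0, 3, 0, 2, 0, 3, 0, 2, 0, 3, 0, 3, 0, 3] = U.τ 27 from vpz27).trans (one_mul _).symm) (List.Forall₂.cons ((show ev (atm 3 fP) [3, 0, 2, 0, 3, 0, 2, 0, 3, 0, 2, 0, 3, 0, 3, 0, 3, 0, 3, 0, 3, 0, 2, 0, 3, 0, 2, 0, 3, 0, 3, 0, 3, 0, 3, 0, 3, 0, 2, 0, 2, 0, 2, 0, 3, 0, 2, 0, 3, 0, 3, 0, 2, 0, 3, 1, 2, 1, 3, 1, 2, 1, 2, 1, 3, 1, 3, 1, 4, 0, 2, 0, 2, 0, 3, 0, 3, 0, 2, 0, 3, 0, 2] = U.τ 29 from vpz29).trans (one_mul _).symm) (List.Forall₂.nil)))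
theorem reach146 : Reach (U.lsub W141) 0 M144 := (Reach.grow hU (Reach.base _ 0) gr145)
theorem orb149 : (orbS (U.lsub W141) 0).ncard = 1536 := reach146.ncard hU cl147 sz148
theorem orb149e : orbS (U.lsub W141) 0 = {c | Nat.testBit M144 c = true} := reach146.orb hU cl147
theorem reach154 : Reach (U.lsub W150) 1 M152 := (Reach.grow hU (Reach.base _ 1) gr153)
theorem orb157 : (orbS (U.lsub W150) 1).ncard = 6 := reach154.ncard hU cl155 sz156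
theorem orb157e : orbS (U.lsub W150) 1 = {c | Nat.testBit M152 c = true} := reach154.orb hU cl155
theorem lbS10158 : 6 ∣ Nat.card (U.lsub W150) := dvd_card_orb orb157
theorem lbS10 : 9216 ∣ Nat.card (U.lsub W141) :=
  dvd_card_step (s := 1536) (M := 6) (B := U.lsub W150) (Tab.lsub_le_all (AllP.cons (mem_of_rel (hU.one rel142) (U.mem_letters (by decide))) (AllP.cons (mem_of_rel (hU.one rel143) (U.mem_letters (by decide))) (AllP.nil)))) (hU.fixes fx151) orb149 lbS10158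
theorem cardS10 : 9216 ∣ Nat.card (wsub 3 p [[0, 2, 0, 2, 0, 2, 0, 3, 0, 2, 0, 3, 0, 2, 0, 2, 0, 3, 0, 3, 0, 3, 0, 2, 0, 2, 0, 3, 0, 3, 0, 3, 0, 3, 0, 3, 0, 3, 0, 2, 0, 2, 0, 2, 0, 2, 1, 2, 1, 2, 1, 3, 1, 2, 1, 3, 1, 2, 1, 2, 1, 3, 1, 2, 1, 3, 1, 4, 0, 2, 0, 3, 0, 2, 0, 3, 0, 3, 0, 2, 0, 3, 0, 2, 0, 3, 0, 3, 0, 3], [3, 0, 2, 0, 3, 0, 2, 0, 3, 0, 2, 0, 3, 0, 3, 0, 3, 0, 3, 0, 3, 0, 2, 0, 3, 0, 2, 0, 3, 0, 3, 0, 3, 0, 3, 0, 3, 0, 2, 0, 2, 0, 2, 0, 3, 0, 2, 0, 3, 0, 3, 0, 2, 0, 3, 1, 2, 1, 3, 1, 2, 1, 2, 1, 3, 1, 3, 1, 4, 0, 2, 0, 2, 0, 3, 0, 3, 0, 2, 0, 3, 0, 2]]) := by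
  rw [card_wsub_lift, eS10]; exact lbS10
theorem eS12 : wsub 3 fP [[0, 2, 0, 3, 0, 3, 0, 2, 0, 2, 0, 2, 0, 2, 0, 3, 0, 2, 0, 2, 0, 3, 0, 3, 0, 2, 0, 2, 0, 2, 0, 2, 0, 3, 0, 2, 0, 3, 0, 2, 0, 3, 0, 2, 2, 1, 3, 1, 2, 1, 3, 1, 2, 1, 3, 1, 3, 1, 2, 1, 2, 1, 4, 0, 3, 0, 3, 0, 2, 0, 2, 0, 3, 0, 2, 0, 3, 0, 2, 0, 3, 0, 2], [3, 0, 3, 0, 3, 0, 2, 0, 2, 0, 3, 0, 3, 0, 2, 0, 2, 0, 2, 0, 2, 0, 2, 0, 2, 0, 2, 0, 2, 0, 2, 0, 3, 0, 2, 0, 3, 0, 3, 0, 3, 0, 3, 0, 3, 0, 2, 2, 1, 2, 1, 4, 0, 3, 0, 3, 1, 2, 1, 3, 1, 4, 0, 2, 0, 3, 0]] = U.lsub W159 :=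
  lsub_eq_of_all₂ (show List.Forall₂ _ [[0, 2, 0, 3, 0, 3, 0, 2, 0, 2, 0, 2, 0, 2, 0, 3, 0, 2, 0, 2, 0, 3, 0, 3, 0, 2, 0, 2, 0, 2, 0, 2, 0, 3, 0, 2, 0, 3, 0, 2, 0, 3, 0, 2, 2, 1, 3, 1, 2, 1, 3, 1, 2, 1, 3, 1, 3, 1, 2, 1, 2, 1, 4, 0, 3, 0, 3, 0, 2, 0, 2, 0, 3, 0, 2, 0, 3, 0, 2, 0, 3, 0, 2], [3, 0, 3, 0, 3, 0, 2, 0, 2, 0, 3, 0, 3, 0, 2, 0, 2, 0, 2, 0, 2, 0, 2, 0, 2, 0, 2, 0, 2, 0, 2, 0, 3, 0, 2, 0, 3, 0, 3, 0, 3, 0, 3, 0, 3, 0, 2, 2, 1, 2, 1, 4, 0, 3, 0, 3, 1, 2, 1, 3, 1, 4, 0, 2, 0, 3, 0]] [[31], [33]] from List.Forall₂.cons ((show ev (atm 3 fP) [0, 2, 0, 3, 0, 3, 0, 2, 0, 2, 0, 2, 0, 2, 0, 3, 0, 2, 0, 2, 0, 3, 0, 3, 0, 2, 0, 2, 0, 2, 0, 2, 0, 3, 0, 2, 0, 3, 0, 2, 0, 3, 0, 2, 2, 1, 3, 1, 2, 1, 3, 1, 2, 1, 3, 1, 3, 1, 2, 1, 2, 1, 4, 0, 3, 0, 3, 0, 2, 0, 2,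 0, 3, 0, 2, 0, 3, 0, 2, 0, 3, 0, 2] = U.τ 31 from vpz31).trans (one_mul _).symm) (List.Forall₂.cons ((show ev (atm 3 fP) [3, 0, 3, 0, 3, 0, 2, 0, 2, 0, 3, 0, 3, 0, 2, 0, 2, 0, 2, 0, 2, 0, 2, 0, 2, 0, 2, 0, 2, 0, 2, 0, 3, 0, 2, 0, 3, 0, 3, 0, 3, 0, 3, 0, 3, 0, 2, 2, 1, 2, 1, 4, 0, 3, 0, 3, 1, 2, 1, 3, 1, 4, 0, 2, 0, 3, 0] = U.τ 33 from vpz33).trans (one_mul _).symm) (List.Forall₂.nil)))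
theorem reach162 : Reach (U.lsub W159) 1225 M160 := (Reach.grow hU (Reach.base _ 1225) gr161)
theorem orb165 : (orbS (U.lsub W159) 1225).ncard = 2024 := reach162.ncard hU cl163 sz164
theorem orb165e : orbS (U.lsub W159) 1225 = {c | Nat.testBit M160 c = true} := reach162.orb hU cl163
theorem reach170 : Reach (U.lsub W166) 0 M168 := (Reach.grow hU (Reach.base _ 0) gr169)
theorem orb173 : (orbS (U.lsub W166) 0).ncard = 3 := reach170.ncard hU cl171 sz172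
theorem orb173e : orbS (U.lsub W166) 0 = {c | Nat.testBit M168 c = true} := reach170.orb hU cl171
theorem lbS12174 : 3 ∣ Nat.card (U.lsub W166) := dvd_card_orb orb173
theorem lbS12 : 6072 ∣ Nat.card (U.lsub W159) :=
  dvd_card_step (s := 2024) (M := 3) (B := U.lsub W166) (U.lsub_sub (by decide)) (hU.fixes fx167) orb165 lbS12174
theorem cardS12 : 6072 ∣ Nat.card (wsub 3 p [[0, 2, 0, 3, 0, 3, 0, 2, 0, 2, 0, 2, 0, 2, 0, 3, 0, 2, 0, 2, 0, 3, 0, 3, 0, 2, 0, 2, 0, 2, 0, 2, 0, 3, 0, 2, 0, 3, 0, 2, 0, 3, 0, 2, 2, 1, 3, 1, 2, 1, 3, 1, 2, 1, 3, 1, 3, 1, 2, 1, 2, 1, 4, 0, 3, 0, 3, 0, 2, 0, 2, 0, 3, 0, 2, 0, 3, 0, 2, 0, 3, 0, 2], [3, 0, 3, 0, 3, 0, 2, 0, 2, 0, 3, 0, 3, 0, 2, 0, 2, 0, 2, 0, 2, 0, 2, 0, 2, 0, 2, 0, 2, 0, 2, 0, 3, 0, 2, 0, 3, 0, 3, 0, 3, 0, 3, 0, 3, 0,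 2, 2, 1, 2, 1, 4, 0, 3, 0, 3, 1, 2, 1, 3, 1, 4, 0, 2, 0, 3, 0]]) := by
  rw [card_wsub_lift, eS12]; exact lbS12

end Cfsg.Agent.Spor.J4N.VB
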